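import Groth.Agent.Hensel1.EtaleStalk
import Groth.Agent.PropsBasic.Generization
import Groth.Agent.EtaleBase.Rigidity
import Mathlib.AlgebraicGeometry.Morphisms.UniversallyOpen
import Mathlib.AlgebraicGeometry.Morphisms.QuasiFinite

/-!
# Irreducible components of schemes étale over geometrically unibranch schemes
-/

set_option autoImplicit false
universe u

open CategoryTheory Limits AlgebraicGeometry TopologicalSpace

namespace Groth.EtaleBaseTwo

variable {X Y : Scheme.{u}}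

theorem existsUnique_component_of_nilradical_isPrime {x : X}
    (h : (nilradical (X.presheaf.stalk x)).IsPrime) :
    ∃! Z, Z ∈ irreducibleComponents (X : Type u) ∧ x ∈ Z := by
  let z : Spec (X.presheaf.stalk x) := ⟨nilradical (X.presheaf.stalk x), h⟩
  have hmax : ∀ y : X, y ⤳ x → X.fromSpecStalk x z ⤳ y := fun y hy => by
    obtain ⟨b, rfl⟩ := Groth.PropsBasic.exists_fromSpecStalk_eq hy
    refine (Groth.PropsBasic.fromSpecStalk_specializes_iff x z b).mpr ?_
    have := b.isPrime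
    exact nilradical_le_prime b.asIdeal
  refine ⟨irreducibleComponent x, ⟨irreducibleComponent_mem_irreducibleComponents x,
    mem_irreducibleComponent⟩, fun Z ⟨hZ, hxZ⟩ => ?_⟩
  have key : ∀ W ∈ irreducibleComponents (X : Type u), x ∈ W → W = closure {X.fromSpecStalk x z} := by
    intro W hW hxW
    have hcl : IsClosed W := isClosed_of_mem_irreducibleComponents W hW
    obtain ⟨w, hw⟩ := QuasiSober.sober hW.1 hcl
    have hle : W ⊆ closure {X.fromSpecStalk x z} := by
      rw [← hw.def]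
      refine closure_minimal ?_ isClosed_closure
      rw [Set.singleton_subset_iff, ← specializes_iff_mem_closure]
      exact hmax w (hw.specializes hxW)
    exact le_antisymm hle (hW.2 isIrreducible_singleton.closure hle)
  rw [key Z hZ hxZ, key _ (irreducibleComponent_mem_irreducibleComponents x) mem_irreducibleComponent]

theorem nilradical_isPrime_of_isGeomUnibranch {A : Type u} [CommRing A] [IsLocalRing A]
    (h : CAlg2.IsGeomUnibranch A) : (nilradical A).IsPrime :=
  (Ideal.Quotient.isDomain_iff_prime _).mp h.1.1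

theorem isGeomUnibranch_stalk_of_etale (f : X ⟶ Y) [Etale f] (x : X)
    (h : CAlg2.IsGeomUnibranch (Y.presheaf.stalk (f x))) :
    CAlg2.IsGeomUnibranch (X.presheaf.stalk x) := by
  let _ := (f.stalkMap x).hom.toAlgebra
  have : IsLocalHom (algebraMap (Y.presheaf.stalk (f x)) (X.presheaf.stalk x)) :=
    inferInstanceAs (IsLocalHom (f.stalkMap x).hom)
  exact (Groth.Hensel1.isGeomUnibranch_iff_of_essentiallyEtale
    (Groth.Hensel1.isEssentiallyEtale_stalkMap_of_etale f x)).1.mp h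

theorem existsUnique_component_of_etale (f : X ⟶ Y) [Etale f] (x : X)
    (h : CAlg2.IsGeomUnibranch (Y.presheaf.stalk (f x))) :
    ∃! Z, Z ∈ irreducibleComponents (X : Type u) ∧ x ∈ Z :=
  existsUnique_component_of_nilradical_isPrime
    (nilradical_isPrime_of_isGeomUnibranch (isGeomUnibranch_stalk_of_etale f x h))

variable [IrreducibleSpace Y]

theorem map_genericPoint_of_flat (f : X ⟶ Y) [Flat f] {Z : Set X} (hZ : Z ∈ irreducibleComponents X)
    {ζ : X} (hζ : IsGenericPoint ζ Z) : f ζ = genericPoint Y := by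
  obtain ⟨x', hx', hx'η⟩ := Flat.generalizingMap f (genericPoint_specializes (f ζ))
  have hle : Z ⊆ closure {x'} := by
    rw [← hζ.def]
    exact closure_minimal (Set.singleton_subset_iff.mpr hx'.mem_closure) isClosed_closure
  have hge : x' ∈ Z := hZ.2 isIrreducible_singleton.closure hle (subset_closure rfl)
  rw [show ζ = x' from Inseparable.eq ((hζ.specializes hge).antisymm hx')]
  exact hx'η

theorem eq_genericPoint_of_fibre (f : X ⟶ Y) [Flat f] [LocallyQuasiFinite f] {Z : Set X}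
    (hZ : Z ∈ irreducibleComponents X) {ζ : X} (hζ : IsGenericPoint ζ Z) {x : X} (hx : x ∈ Z)
    (hfx : f x = genericPoint Y) : x = ζ := by
  have := (f.isDiscrete_preimage_singleton (genericPoint Y)).to_subtype
  have h : (⟨ζ, map_genericPoint_of_flat f hZ hζ⟩ : f ⁻¹' {genericPoint Y}) ⤳ ⟨x, hfx⟩ :=
    Topology.IsInducing.subtypeVal.specializes_iff.mp (hζ.specializes hx)
  exact (congrArg Subtype.val h.eq).symm

/-- Near a point over a geometrically unibranch point, an étale scheme over an irreducible one is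
irreducible. -/
theorem exists_irreducible_nhd (f : X ⟶ Y) [Etale f] (x : X)
    (h : CAlg2.IsGeomUnibranch (Y.presheaf.stalk (f x))) :
    ∃ (W : X.Opens) (Z : Set X), x ∈ W ∧ IsAffineOpen W ∧ Z ∈ irreducibleComponents X ∧ x ∈ Z ∧
      (W : Set X) ⊆ Z := by
  obtain ⟨Z, ⟨hZ, hxZ⟩, hu⟩ := existsUnique_component_of_etale f x h
  obtain ⟨_, ⟨V, hV, rfl⟩, hxV, -⟩ :=
    Y.isBasis_affineOpens.exists_subset_of_mem_open (Set.mem_univ (f x)) isOpen_univ
  obtain ⟨_, ⟨U, hU, rfl⟩, hxU, hUV⟩ :=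
    X.isBasis_affineOpens.exists_subset_of_mem_open (show x ∈ (f ⁻¹ᵁ V : Set X) from hxV)
      (f ⁻¹ᵁ V).isOpen
  replace hV : IsAffineOpen V := hV
  replace hU : IsAffineOpen U := hU
  have : IsAffine (Scheme.Opens.toScheme V) := hV
  have : IsAffine (Scheme.Opens.toScheme U) := hU
  let g : Scheme.Opens.toScheme U ⟶ Scheme.Opens.toScheme V := f.resLE V U hUV
  have hfin : {z : X | z ∈ U ∧ f z = genericPoint Y}.Finite := by
    by_cases hη : genericPoint Y ∈ V
    · refine ((g.finite_preimage_singleton ⟨genericPoint Y, hη⟩).image (Scheme.Opens.ι U)).subset ?_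
      rintro z ⟨hzU, hz⟩
      refine ⟨⟨z, hzU⟩, Subtype.ext ?_, rfl⟩
      rw [show (g ⟨z, hzU⟩).1 = (g ≫ Scheme.Opens.ι V) ⟨z, hzU⟩ from rfl, Scheme.Hom.resLE_comp_ι]
      exact hz
    · refine Set.finite_empty.subset ?_
      rintro z ⟨hzU, hz⟩
      exact hη (hz ▸ hUV hzU)
  let S : Set X := {z | (z ∈ U ∧ f z = genericPoint Y) ∧ closure {z} ∈ irreducibleComponents X ∧
    closure {z} ≠ Z}
  have hcl : IsClosed (⋃ z ∈ S, closure {z}) :=
    (hfin.subset fun z hz => hz.1).isClosed_biUnion fun _ _ => isClosed_closure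
  have hxC : x ∉ ⋃ z ∈ S, closure {z} := by
    rw [Set.mem_iUnion₂]
    rintro ⟨z, ⟨-, hz, hzZ⟩, hxz⟩
    exact hzZ (hu _ ⟨hz, hxz⟩)
  obtain ⟨_, ⟨W, hW, rfl⟩, hxW, hWU⟩ := X.isBasis_affineOpens.exists_subset_of_mem_open
    (show x ∈ (U : Set X) \ ⋃ z ∈ S, closure {z} from ⟨hxU, hxC⟩) (U.isOpen.sdiff hcl)
  refine ⟨W, Z, hxW, hW, hZ, hxZ, fun w hw => ?_⟩
  have hZ' := irreducibleComponent_mem_irreducibleComponents (w : X)
  obtain ⟨ζ, hζ⟩ := QuasiSober.sober hZ'.1 (isClosed_of_mem_irreducibleComponents _ hZ')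
  have hwζ : ζ ⤳ w := hζ.specializes mem_irreducibleComponent
  by_contra hwZ
  refine (hWU hw).2 (Set.mem_iUnion₂.mpr ⟨ζ, ⟨⟨hwζ.mem_open U.isOpen (hWU hw).1,
    map_genericPoint_of_flat f hZ' hζ⟩, hζ.def.symm ▸ hZ', ?_⟩, hwζ.mem_closure⟩)
  intro e
  exact hwZ (e ▸ hwζ.mem_closure)

theorem components_of_etale_over_geomUnibranch (f : X ⟶ Y) [Etale f]
    (hY : ∀ y : Y, CAlg2.IsGeomUnibranch (Y.presheaf.stalk y)) :
    (∀ x : X, ∃! Z, Z ∈ irreducibleComponents ↥X ∧ x ∈ Z) ∧
    (∀ Z ∈ irreducibleComponents ↥X, IsOpen Z ∧ ∃! x : X, x ∈ Z ∧ f.base x = genericPoint Y) := by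
  refine ⟨fun x => existsUnique_component_of_etale f x (hY _), fun Z hZ => ⟨?_, ?_⟩⟩
  · refine isOpen_iff_forall_mem_open.mpr fun z hz => ?_
    obtain ⟨W, Z', hzW, -, hZ', hzZ', hWZ⟩ := exists_irreducible_nhd f z (hY _)
    exact ⟨W, ((existsUnique_component_of_etale f z (hY _)).unique ⟨hZ, hz⟩ ⟨hZ', hzZ'⟩).symm ▸ hWZ,
      W.isOpen, hzW⟩
  · obtain ⟨ζ, hζ⟩ := QuasiSober.sober hZ.1 (isClosed_of_mem_irreducibleComponents _ hZ)
    exact ⟨ζ, ⟨hζ.mem, map_genericPoint_of_flat f hZ hζ⟩, fun x ⟨hx, hfx⟩ =>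
      eq_genericPoint_of_fibre f hZ hζ hx hfx⟩

end Groth.EtaleBaseTwo
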