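import Groth.Agent.EtaleBaseTwo.UnramifiedGeomUnibranch
import Mathlib.RingTheory.Unramified.Locus
import Mathlib.RingTheory.Etale.Locus
import Mathlib.RingTheory.RingHom.FiniteType
import Mathlib.RingTheory.Ideal.MinimalPrime.Localization

/-!
# Unramified primes over geometrically unibranch points: pointwise etaleness
-/

set_option autoImplicit false
universe u

open CategoryTheory Limits AlgebraicGeometry TopologicalSpace

namespace Groth.EtaleBaseTwo

/-- If `A_𝔭 → B_𝔮` is injective, some generization of `𝔮` lies over zero. -/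
theorem exists_le_under_eq_bot {A B : Type u} [CommRing A] [IsDomain A] [CommRing B] [Algebra A B]
    (q : Ideal B) [q.IsPrime] (p : Ideal A) [p.IsPrime] [q.LiesOver p]
    (hinj : Function.Injective (Localization.localRingHom p q (algebraMap A B) (q.over_def p))) :
    ∃ q0 : Ideal B, q0.IsPrime ∧ q0 ≤ q ∧ q0.under A = ⊥ := by
  let Bq := Localization.AtPrime q
  have hinj' : Function.Injective (algebraMap A Bq) := by
    have : (algebraMap A Bq) =
        (Localization.localRingHom p q (algebraMap A B) (q.over_def p)).comp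
          (algebraMap A (Localization.AtPrime p)) := by
      ext a
      rw [RingHom.comp_apply, Localization.localRingHom_to_map, ← IsScalarTower.algebraMap_apply]
    rw [this]
    exact hinj.comp (IsLocalization.injective _ p.primeCompl_le_nonZeroDivisors)
  obtain ⟨P, hP, hP0⟩ := Ideal.exists_comap_eq_of_mem_minimalPrimes_of_injective hinj' ⊥
    (by simp [IsDomain.minimalPrimes_eq_singleton_bot])
  refine ⟨P.comap (algebraMap B Bq), Ideal.IsPrime.comap _, ?_, ?_⟩
  · exact (Ideal.comap_mono (IsLocalRing.le_maximalIdeal hP.ne_top)).trans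
      (le_of_eq (IsLocalization.AtPrime.under_maximalIdeal Bq q))
  · rw [← hP0, Ideal.under, Ideal.comap_comap, ← IsScalarTower.algebraMap_eq]

/-- A finite type algebra over a domain, unramified at a prime over a geometrically unibranch
point which has a generization over zero, is étale near that prime. -/
theorem exists_etale_away_of_isUnramifiedAt {A B : Type u} [CommRing A] [IsDomain A] [CommRing B]
    [Algebra A B] [Algebra.FiniteType A B] (q : Ideal B) [q.IsPrime] [Algebra.IsUnramifiedAt A q]
    (Rp : Type u) [CommRing Rp] [IsLocalRing Rp] [Algebra A Rp] [IsLocalization.AtPrime Rp (q.under A)]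
    (hu : CAlg2.IsGeomUnibranch Rp) (q0 : Ideal B) [q0.IsPrime] (hle : q0 ≤ q) (h0 : q0.under A = ⊥) :
    ∃ g : B, g ∉ q ∧ Algebra.Etale A (Localization.Away g) := by
  classical
  obtain ⟨f, hfq, hf⟩ := Algebra.exists_formallyUnramified_of_isUnramifiedAt (R := A) q
  let S := Localization.Away f
  have hdisj : ∀ J : Ideal B, J.IsPrime → J ≤ q → Disjoint (Submonoid.powers f : Set B) J := by
    intro J _ hJ
    rw [Set.disjoint_left]
    rintro _ ⟨n, rfl⟩ h
    exact hfq (‹q.IsPrime›.mem_of_pow_mem n (hJ h))
  let Q : Ideal S := q.map (algebraMap B S)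
  let Q0 : Ideal S := q0.map (algebraMap B S)
  have : Q.IsPrime := IsLocalization.isPrime_of_isPrime_disjoint _ _ q inferInstance (hdisj q inferInstance le_rfl)
  have : Q0.IsPrime := IsLocalization.isPrime_of_isPrime_disjoint _ _ q0 inferInstance (hdisj q0 inferInstance hle)
  have hQ : Q.comap (algebraMap B S) = q :=
    IsLocalization.under_map_of_isPrime_disjoint _ _ inferInstance (hdisj q inferInstance le_rfl)
  have hQ0 : Q0.comap (algebraMap B S) = q0 :=
    IsLocalization.under_map_of_isPrime_disjoint _ _ inferInstance (hdisj q0 inferInstance hle)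
  have hunder : ∀ J : Ideal S, J.under A = (J.comap (algebraMap B S)).under A := fun J => by
    rw [Ideal.under, Ideal.under, Ideal.comap_comap, ← IsScalarTower.algebraMap_eq]
  have : Algebra.FiniteType A S :=
    Algebra.FiniteType.trans (S := B) inferInstance
      (IsLocalization.finiteType_of_monoid_fg (Submonoid.powers f) _)
  have : IsLocalization.AtPrime Rp (Q.under A) := by
    convert ‹IsLocalization.AtPrime Rp (q.under A)› using 2
    rw [hunder, hQ]
  obtain ⟨h, hhQ, het⟩ := exists_etale_away A S Q Rp hu Q0 (Ideal.map_mono hle)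
    (by rw [hunder, hQ0, h0])
  obtain ⟨n, b, hb⟩ := IsLocalization.Away.surj (S := S) f h
  have hassoc : Associated h (algebraMap B S b) := by
    rw [← hb]
    exact associated_mul_unit_right h _ ((IsLocalization.Away.algebraMap_isUnit f).pow n)
  refine ⟨b * f, fun hmem => ?_, ?_⟩
  · refine (‹q.IsPrime›.mem_or_mem hmem).elim (fun hbq => hhQ ?_) hfq
    have : algebraMap B S b ∈ Q := Ideal.mem_map_of_mem _ hbq
    rwa [← hb, Ideal.mul_unit_mem_iff_mem] at this
    exact (IsLocalization.Away.algebraMap_isUnit f).pow n
  · have : IsLocalization.Away (algebraMap B S b) (Localization.Away h) :=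
      IsLocalization.Away.of_associated hassoc
    have : IsLocalization.Away (b * f) (Localization.Away h) :=
      IsLocalization.Away.mul S (Localization.Away h) f b
    exact Algebra.Etale.of_equiv
      ((IsLocalization.algEquiv (Submonoid.powers (b * f)) (Localization.Away h)
        (Localization.Away (b * f))).restrictScalars A)

/-- A finitely presented algebra, unramified at a prime over a geometrically unibranch local
domain injecting into the local ring at that prime, is étale near that prime. -/
theorem exists_etale_away_of_injective {A B : Type u} [CommRing A] [CommRing B]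
    [Algebra A B] [Algebra.FinitePresentation A B] (q : Ideal B) [q.IsPrime] [Algebra.IsUnramifiedAt A q]
    (Rp : Type u) [CommRing Rp] [IsLocalRing Rp] [IsDomain Rp] [Algebra A Rp]
    [IsLocalization.AtPrime Rp (q.under A)] (hu : CAlg2.IsGeomUnibranch Rp)
    (L : Type u) [CommRing L] [Algebra B L] [IsLocalization.AtPrime L q]
    (φ : Rp →+* L) (hφ : φ.comp (algebraMap A Rp) = (algebraMap B L).comp (algebraMap A B))
    (hinj : Function.Injective φ) :
    ∃ g : B, g ∉ q ∧ Algebra.Etale A (Localization.Away g) := by
  classical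
  let p := q.under A
  let M := Algebra.algebraMapSubmonoid B p.primeCompl
  let B' := Localization M
  let _ : Algebra Rp B' := localizationAlgebra p.primeCompl B
  have htow : IsScalarTower A Rp B' := .of_algebraMap_eq fun a => by
    rw [RingHom.algebraMap_toAlgebra, IsLocalization.map_eq, ← IsScalarTower.algebraMap_apply]
  have : IsLocalization (Submonoid.map (algebraMap A B) p.primeCompl) B' :=
    inferInstanceAs (IsLocalization M B')
  have : Algebra.FiniteType Rp B' := by
    rw [← RingHom.finiteType_algebraMap]
    exact RingHom.finiteType_localizationPreserves (algebraMap A B) p.primeCompl Rp B'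
      (RingHom.finiteType_algebraMap.mpr inferInstance)
  have hMq : Disjoint (M : Set B) q := Set.disjoint_left.mpr fun b ⟨a, ha, hab⟩ h => ha (by
    show algebraMap A B a ∈ q
    exact hab ▸ h)
  let Q : Ideal B' := q.map (algebraMap B B')
  have : Q.IsPrime := IsLocalization.isPrime_of_isPrime_disjoint _ _ q inferInstance hMq
  have hQ : Q.comap (algebraMap B B') = q :=
    IsLocalization.under_map_of_isPrime_disjoint _ _ inferInstance hMq
  let L' := Localization.AtPrime Q
  have hL' : IsLocalization.AtPrime L' q := by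
    have := IsLocalization.isLocalization_isLocalization_atPrime_isLocalization M L' Q
    simpa only [hQ] using this
  let e : L ≃ₐ[B] L' := IsLocalization.algEquiv q.primeCompl L L'
  -- `L'` over `A`
  have : Algebra.FormallyUnramified A L' :=
    Algebra.FormallyUnramified.of_equiv
      ((IsLocalization.algEquiv q.primeCompl (Localization.AtPrime q) L').restrictScalars A)
  have : Algebra.IsUnramifiedAt Rp Q := Algebra.FormallyUnramified.of_restrictScalars A Rp L'
  -- the map from `Rp`
  have hmap : algebraMap Rp L' = (e.toRingEquiv.toRingHom).comp φ := by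
    refine IsLocalization.ringHom_ext p.primeCompl (RingHom.ext fun a => ?_)
    have h : φ (algebraMap A Rp a) = algebraMap B L (algebraMap A B a) := DFunLike.congr_fun hφ a
    show algebraMap Rp L' (algebraMap A Rp a) = e (φ (algebraMap A Rp a))
    rw [h, e.commutes, ← IsScalarTower.algebraMap_apply, ← IsScalarTower.algebraMap_apply]
  have hinj' : Function.Injective (algebraMap Rp L') := by
    rw [hmap]; exact e.injective.comp hinj
  obtain ⟨P, hP, hP0⟩ := Ideal.exists_comap_eq_of_mem_minimalPrimes_of_injective hinj' ⊥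
    (by simp [IsDomain.minimalPrimes_eq_singleton_bot])
  let Q0 : Ideal B' := P.comap (algebraMap B' L')
  have : Q0.IsPrime := Ideal.IsPrime.comap _
  have hQ0 : Q0 ≤ Q := (Ideal.comap_mono (IsLocalRing.le_maximalIdeal hP.ne_top)).trans
    (le_of_eq (IsLocalization.AtPrime.under_maximalIdeal L' Q))
  have hQ00 : Q0.under Rp = ⊥ := by
    rw [← hP0, Ideal.under, Ideal.comap_comap, ← IsScalarTower.algebraMap_eq]
  have hQunder : IsLocalization.AtPrime Rp (Q.under Rp) := by
    refine IsLocalization.self fun r hr => ?_
    by_contra hnu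
    obtain ⟨⟨a, s⟩, ha⟩ := IsLocalization.surj p.primeCompl r
    have hra : algebraMap A Rp a ∈ IsLocalRing.maximalIdeal Rp := by
      rw [← ha]; exact Ideal.mul_mem_right _ _ hnu
    have hap : a ∈ p := (IsLocalization.AtPrime.to_map_mem_maximal_iff Rp p a).mp hra
    refine hr ((Ideal.mul_unit_mem_iff_mem (I := Q.under Rp)
      (IsLocalization.map_units Rp s)).mp ?_)
    rw [ha]
    show algebraMap Rp B' (algebraMap A Rp a) ∈ Q
    rw [← IsScalarTower.algebraMap_apply, IsScalarTower.algebraMap_apply A B B']
    exact Ideal.mem_map_of_mem _ hap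
  obtain ⟨g, hgQ, het⟩ := exists_etale_away_of_isUnramifiedAt (A := Rp) Q Rp hu Q0 hQ0 hQ00
  let Bg := Localization.Away g
  have hle : Submonoid.powers g ≤ Q.primeCompl := Submonoid.powers_le.mpr hgQ
  let _ : Algebra Bg L' :=
    IsLocalization.localizationAlgebraOfSubmonoidLe Bg L' (Submonoid.powers g) Q.primeCompl hle
  have : IsScalarTower B' Bg L' :=
    IsLocalization.localization_isScalarTower_of_submonoid_le Bg L' (Submonoid.powers g) Q.primeCompl hle
  have : IsScalarTower Rp Bg L' := .to₁₃₄ Rp B' Bg L'
  have : IsLocalization (Q.primeCompl.map (algebraMap B' Bg)) L' :=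
    IsLocalization.isLocalization_of_submonoid_le Bg L' (Submonoid.powers g) Q.primeCompl hle
  have : Algebra.FormallyEtale Bg L' :=
    Algebra.FormallyEtale.of_isLocalization (Q.primeCompl.map (algebraMap B' Bg))
  have : Algebra.FormallyEtale Rp L' := Algebra.FormallyEtale.comp Rp Bg L'
  have : Algebra.FormallyEtale A Rp := Algebra.FormallyEtale.of_isLocalization p.primeCompl
  have : Algebra.FormallyEtale A L' := Algebra.FormallyEtale.comp A Rp L'
  have : Algebra.IsEtaleAt A q := Algebra.FormallyEtale.of_equiv
    ((IsLocalization.algEquiv q.primeCompl L' (Localization.AtPrime q)).restrictScalars A)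
  exact Algebra.exists_etale_of_isEtaleAt q

/-- A finitely presented formally unramified morphism is étale near a point over a geometrically
unibranch local domain which injects into the local ring at the point. -/
theorem exists_etale_nhd_of_stalkMap_injective {X Y : Scheme.{u}} (f : X ⟶ Y)
    [LocallyOfFinitePresentation f] [FormallyUnramified f] (x : X) [IsDomain (Y.presheaf.stalk (f x))]
    (hY : CAlg2.IsGeomUnibranch (Y.presheaf.stalk (f x))) (hinj : Function.Injective (f.stalkMap x)) :
    ∃ U : X.Opens, x ∈ U ∧ Etale (U.ι ≫ f) := by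
  obtain ⟨_, ⟨V, hV, rfl⟩, hxV, -⟩ :=
    Y.isBasis_affineOpens.exists_subset_of_mem_open (Set.mem_univ (f x)) isOpen_univ
  obtain ⟨_, ⟨U, hU, rfl⟩, hxU, hUV⟩ :=
    X.isBasis_affineOpens.exists_subset_of_mem_open (show x ∈ (f ⁻¹ᵁ V : Set X) from hxV)
      (f ⁻¹ᵁ V).isOpen
  replace hV : IsAffineOpen V := hV
  replace hU : IsAffineOpen U := hU
  have e : U ≤ f ⁻¹ᵁ V := hUV
  let _ := (f.appLE V U e).hom.toAlgebra
  have : Algebra.FinitePresentation Γ(Y, V) Γ(X, U) :=
    LocallyOfFinitePresentation.finitePresentation_appLE f hV hU e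
  have : Algebra.FormallyUnramified Γ(Y, V) Γ(X, U) := f.formallyUnramified_appLE hV hU e
  let q := (hU.primeIdealOf ⟨x, hxU⟩).asIdeal
  have : Algebra.IsUnramifiedAt Γ(Y, V) q := Algebra.FormallyUnramified.comp _ Γ(X, U) _
  let _ := Y.presheaf.algebra_section_stalk (⟨f x, hxV⟩ : V)
  let _ := X.presheaf.algebra_section_stalk (⟨x, hxU⟩ : U)
  have := hU.isLocalization_stalk ⟨x, hxU⟩
  have : IsLocalization.AtPrime (Y.presheaf.stalk (f x)) (q.under Γ(Y, V)) := by
    show IsLocalization (q.under Γ(Y, V)).primeCompl _
    simp only [q, show (hU.primeIdealOf ⟨x, hxU⟩).asIdeal.under Γ(Y, V) =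
        (hV.primeIdealOf ⟨f x, hxV⟩).asIdeal from
      congrArg PrimeSpectrum.asIdeal (IsAffineOpen.comap_primeIdealOf_appLE V hV U hU e hxU)]
    exact hV.isLocalization_stalk ⟨f x, hxV⟩
  obtain ⟨h, hhq, het⟩ := exists_etale_away_of_injective q (Y.presheaf.stalk (f x)) hY
    (X.presheaf.stalk x) (f.stalkMap x).hom (by
      show (Y.presheaf.germ V (f x) hxV ≫ f.stalkMap x).hom =
        (f.appLE V U e ≫ X.presheaf.germ U x hxU).hom
      rw [Scheme.Hom.germ_stalkMap, Scheme.Hom.appLE, Category.assoc, TopCat.Presheaf.germ_res]) hinj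
  let W : X.Opens := X.basicOpen h
  have hW : IsAffineOpen W := hU.basicOpen h
  have hxW : x ∈ W := by
    have h' : hU.primeIdealOf ⟨x, hxU⟩ ∈ PrimeSpectrum.basicOpen h := hhq
    rw [← hU.fromSpec_preimage_basicOpen] at h'
    have h'' : hU.fromSpec (hU.primeIdealOf ⟨x, hxU⟩) ∈ X.basicOpen h := h'
    rwa [hU.fromSpec_primeIdealOf] at h''
  have hWV : W ≤ f ⁻¹ᵁ V := (X.basicOpen_le h).trans e
  have hetW : (f.appLE V W hWV).hom.Etale := by
    let _ := (f.appLE V W hWV).hom.toAlgebra
    let _ : Algebra Γ(X, U) Γ(X, W) := (X.presheaf.map (homOfLE (X.basicOpen_le h)).op).hom.toAlgebra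
    have : IsLocalization.Away h Γ(X, W) := hU.isLocalization_basicOpen h
    have : IsScalarTower Γ(Y, V) Γ(X, U) Γ(X, W) := .of_algebraMap_eq' (by
      show (f.appLE V W hWV).hom = (f.appLE V U e ≫ X.presheaf.map (homOfLE (X.basicOpen_le h)).op).hom
      rw [Scheme.Hom.appLE_map])
    exact Algebra.Etale.of_equiv ((IsLocalization.algEquiv (Submonoid.powers h)
      (Localization.Away h) Γ(X, W)).restrictScalars Γ(Y, V))
  have : Etale (Spec.map (f.appLE V W hWV)) := (HasRingHomProperty.Spec_iff (P := @Etale)).mpr hetW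
  refine ⟨W, hxW, ?_⟩
  have heq : W.ι ≫ f = hW.isoSpec.hom ≫ Spec.map (f.appLE V W hWV) ≫ hV.fromSpec := by
    rw [IsAffineOpen.SpecMap_appLE_fromSpec f hV hW hWV, IsAffineOpen.isoSpec_hom_fromSpec_assoc]
  rw [heq]
  infer_instance

end Groth.EtaleBaseTwo
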