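import Mathlib.AlgebraicGeometry.ResidueField
import Mathlib.AlgebraicGeometry.Morphisms.QuasiSeparated
import Mathlib.AlgebraicGeometry.Limits
import Mathlib.FieldTheory.IsAlgClosed.AlgebraicClosure
import Mathlib.RingTheory.LocalRing.ResidueField.Ideal

/-!
# Covers with algebraically closed residue fields
-/

set_option autoImplicit false
universe u

open CategoryTheory Limits AlgebraicGeometry

noncomputable section

namespace Groth.EtaleBaseTwo

/-- Integral elements of the product of algebraic closures of all residue fields. -/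
abbrev AicCover (A : Type u) [CommRing A] : Type u :=
  integralClosure A (∀ p : PrimeSpectrum A, AlgebraicClosure p.asIdeal.ResidueField)

variable (A : Type u) [CommRing A]

theorem exists_root_aicCover (f : Polynomial (AicCover A)) (hf : f.Monic) (hd : f.natDegree ≠ 0) :
    ∃ b, f.IsRoot b := by
  let PP := ∀ p : PrimeSpectrum A, AlgebraicClosure p.asIdeal.ResidueField
  let ev : ∀ p, AicCover A →+* AlgebraicClosure (PrimeSpectrum.asIdeal p).ResidueField := fun p =>
    (Pi.evalRingHom _ p).comp (algebraMap (AicCover A) PP)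
  choose r hr using fun p => IsAlgClosed.exists_root (f.map (ev p)) (by
    intro h0; exact hd (by rw [← hf.natDegree_map (ev p), Polynomial.natDegree_eq_zero_iff_degree_le_zero, h0]))
  have hroot : Polynomial.aeval (r : PP) f = 0 := funext fun p => by
    have h := hr p
    rw [Polynomial.IsRoot, Polynomial.eval_map] at h
    show Pi.evalRingHom (fun q : PrimeSpectrum A => AlgebraicClosure q.asIdeal.ResidueField) p
      (Polynomial.eval₂ (algebraMap (AicCover A) PP) r f) = 0
    rw [Polynomial.hom_eval₂]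
    exact h
  have hint : IsIntegral (AicCover A) (r : PP) := ⟨f, hf, hroot⟩
  refine ⟨⟨r, isIntegral_trans (R := A) _ hint⟩, ?_⟩
  have hinj : Function.Injective (algebraMap (AicCover A) PP) := Subtype.val_injective
  apply hinj
  rw [map_zero, ← Polynomial.eval₂_at_apply]
  exact hroot

theorem surjective_comap_aicCover :
    Function.Surjective (PrimeSpectrum.comap (algebraMap A (AicCover A))) := by
  intro p
  let PP := ∀ p : PrimeSpectrum A, AlgebraicClosure p.asIdeal.ResidueField
  let ev : AicCover A →+* AlgebraicClosure p.asIdeal.ResidueField :=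
    (Pi.evalRingHom _ p).comp (algebraMap (AicCover A) PP)
  refine ⟨⟨RingHom.ker ev, RingHom.ker_isPrime _⟩, PrimeSpectrum.ext (Ideal.ext fun a => ?_)⟩
  show ev (algebraMap A (AicCover A) a) = 0 ↔ a ∈ p.asIdeal
  show algebraMap A (AlgebraicClosure p.asIdeal.ResidueField) a = 0 ↔ _
  rw [IsScalarTower.algebraMap_apply A p.asIdeal.ResidueField, map_eq_zero,
    Ideal.algebraMap_residueField_eq_zero]

theorem isAlgClosed_residueField {B : Type u} [CommRing B]
    (hB : ∀ f : Polynomial B, f.Monic → f.natDegree ≠ 0 → ∃ b, f.IsRoot b) (P : Ideal B) [P.IsPrime] :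
    IsAlgClosed P.ResidueField := by
  refine IsAlgClosed.of_exists_root _ fun g hg hirr => ?_
  obtain ⟨⟨s, hs⟩, hint⟩ := IsLocalization.exist_integer_multiples (nonZeroDivisors (B ⧸ P))
    (Finset.range (g.natDegree + 1)) g.coeff
  let c := algebraMap (B ⧸ P) P.ResidueField s
  have hc : c ≠ 0 := by
    refine (map_ne_zero_iff _ (IsFractionRing.injective (B ⧸ P) P.ResidueField)).mpr ?_
    exact nonZeroDivisors.ne_zero hs
  have hlift : Polynomial.scaleRoots g c ∈ Polynomial.lifts (algebraMap B P.ResidueField) := by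
    rw [Polynomial.lifts_iff_coeff_lifts]
    intro i
    rw [Polynomial.coeff_scaleRoots]
    by_cases hi : i < g.natDegree
    · obtain ⟨w, hw⟩ := hint i (Finset.mem_range.mpr (by omega))
      obtain ⟨b, hb⟩ := Ideal.Quotient.mk_surjective (w * s ^ (g.natDegree - i - 1))
      refine ⟨b, ?_⟩
      rw [IsScalarTower.algebraMap_apply B (B ⧸ P) P.ResidueField,
        show algebraMap B (B ⧸ P) b = _ from hb, map_mul, map_pow, hw]
      show c • g.coeff i * _ = _
      rw [smul_eq_mul, mul_right_comm, ← pow_succ', mul_comm,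
        show g.natDegree - i - 1 + 1 = g.natDegree - i by omega]
    · rcases eq_or_ne i g.natDegree with rfl | hne
      · exact ⟨1, by simp [hg.coeff_natDegree]⟩
      · exact ⟨0, by simp [Polynomial.coeff_eq_zero_of_natDegree_lt (show g.natDegree < i by omega)]⟩
  obtain ⟨G, hG, hGd, hGm⟩ :=
    Polynomial.lifts_and_natDegree_eq_and_monic hlift ((Polynomial.monic_scaleRoots_iff c).mpr hg)
  obtain ⟨b, hb⟩ := hB G hGm (by rw [hGd, Polynomial.natDegree_scaleRoots]; exact hirr.natDegree_pos.ne')
  refine ⟨algebraMap B P.ResidueField b / c, ?_⟩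
  have h := Polynomial.scaleRoots_eval₂_mul (p := g) (RingHom.id _) (algebraMap B P.ResidueField b / c) c
  rw [RingHom.id_apply, mul_div_cancel₀ _ hc] at h
  change Polynomial.eval _ (Polynomial.scaleRoots g c) = _ * Polynomial.eval _ g at h
  rw [← hG, Polynomial.eval_map, Polynomial.eval₂_at_apply, hb, map_zero, eq_comm, mul_eq_zero] at h
  exact h.resolve_left (pow_ne_zero _ hc)

theorem isIntegral_residueFieldMap_specMap {A B : CommRingCat.{u}} (φ : A ⟶ B) (hφ : φ.hom.IsIntegral)
    (x : Spec B) : ((Spec.map φ).residueFieldMap x).hom.IsIntegral := by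
  let ψ := ((Spec.map φ).residueFieldMap x).hom
  letI := ψ.toAlgebra
  let evA : A →+* (Spec A).residueField (Spec.map φ x) :=
    ((Scheme.ΓSpecIso A).inv ≫ (Spec A).Γevaluation (Spec.map φ x)).hom
  let evB : B →+* (Spec B).residueField x := ((Scheme.ΓSpecIso B).inv ≫ (Spec B).Γevaluation x).hom
  have hnat : ∀ a, ψ (evA a) = evB (φ a) := fun a => by
    show (Spec.map φ).residueFieldMap x ((Spec A).Γevaluation (Spec.map φ x) ((Scheme.ΓSpecIso A).inv a)) = _
    rw [Scheme.Γevaluation_naturality_apply]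
    exact congrArg (((Spec B).Γevaluation x).hom) (congrArg (fun m : A ⟶ Γ(Spec B, ⊤) => m.hom a)
      (Scheme.ΓSpecIso_inv_naturality φ).symm)
  have hB : ∀ b, IsIntegral ((Spec A).residueField (Spec.map φ x)) (evB b) := fun b => by
    obtain ⟨p, hp, hp'⟩ := hφ b
    refine ⟨p.map evA, hp.map _, ?_⟩
    rw [Polynomial.eval₂_map]
    show Polynomial.eval₂ (ψ.comp evA) (evB b) p = 0
    rw [show ψ.comp evA = evB.comp φ.hom from RingHom.ext hnat, ← Polynomial.hom_eval₂, hp', map_zero]
  intro z
  show IsIntegral ((Spec A).residueField (Spec.map φ x)) z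
  let e := (Scheme.Spec.residueFieldIso B x).commRingCatIsoToRingEquiv
  have hev : ∀ b, e.symm (algebraMap B x.asIdeal.ResidueField b) = evB b := fun b => by
    have h := Scheme.Spec.algebraMap_residueFieldIso_inv B x
    exact congrArg (fun m : B ⟶ (Spec B).residueField x => m.hom b) h
  obtain ⟨a, s, -, hz⟩ := IsFractionRing.div_surjective (B ⧸ x.asIdeal) (e z)
  obtain ⟨a, rfl⟩ := Ideal.Quotient.mk_surjective a
  obtain ⟨s, rfl⟩ := Ideal.Quotient.mk_surjective s
  have hz' : z = evB a / evB s := by
    rw [← hev, ← hev, ← map_div₀]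
    apply e.injective
    rw [RingEquiv.apply_symm_apply, ← hz]
    rfl
  rw [hz', div_eq_mul_inv]
  refine (hB a).mul ?_
  rcases eq_or_ne (evB s) 0 with h0 | h0
  · rw [h0, inv_zero]; exact isIntegral_zero
  exact (hB s).inv

theorem isIntegral_comp {a b c : CommRingCat.{u}} (v : a ⟶ b) (w : b ⟶ c) (hv : v.hom.IsIntegral)
    (hw : w.hom.IsIntegral) : (v ≫ w).hom.IsIntegral :=
  RingHom.IsIntegral.trans _ _ hv hw

/-- A scheme receives a surjection from an affine scheme with algebraically closed residue fields,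
algebraic over those of the base. -/
theorem exists_algClosed_affine_cover (X : Scheme.{u}) [CompactSpace X] [QuasiSeparatedSpace X] :
    ∃ (X' : Scheme.{u}) (f : X' ⟶ X), IsAffine X' ∧ QuasiCompact f ∧ Surjective f ∧
      ∀ x' : X', IsAlgClosed (X'.residueField x') ∧ (f.residueFieldMap x').hom.IsIntegral := by
  let 𝒰 := X.affineCover.finiteSubcover
  have : ∀ i, IsAffine (𝒰.X i) := fun i => by dsimp [𝒰]; infer_instance
  let X₀ := ∐ 𝒰.X
  let h : X₀ ⟶ X := Sigma.desc 𝒰.f
  have : IsAffine X₀ := inferInstance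
  have hiso : ∀ y : X₀, IsIso (h.residueFieldMap y) := fun y => by
    obtain ⟨⟨i, z⟩, rfl⟩ := (sigmaMk 𝒰.X).surjective y
    rw [sigmaMk_mk]
    have e : Sigma.ι 𝒰.X i ≫ h = 𝒰.f i := Sigma.ι_desc _ _
    have h1 : IsIso ((Sigma.ι 𝒰.X i ≫ h).residueFieldMap z) := by
      rw [Scheme.Hom.residueFieldMap_congr e]; infer_instance
    rw [Scheme.residueFieldMap_comp] at h1
    exact (@isIso_comp_right_iff _ _ _ _ _ (h.residueFieldMap _) ((Sigma.ι 𝒰.X i).residueFieldMap z) inferInstance).mp h1
  let A : CommRingCat.{u} := Γ(X₀, ⊤)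
  let φ : A ⟶ CommRingCat.of (AicCover A) := CommRingCat.ofHom (algebraMap A (AicCover A))
  let g : Spec (CommRingCat.of (AicCover A)) ⟶ X₀ := Spec.map φ ≫ X₀.isoSpec.inv
  have hsurj : Surjective (Spec.map φ) := ⟨surjective_comap_aicCover A⟩
  have hh : Surjective h := ⟨fun x => by
    obtain ⟨i, z, rfl⟩ := 𝒰.exists_eq x
    exact ⟨Sigma.ι 𝒰.X i z, congrArg (fun m : 𝒰.X i ⟶ X => m z) (Sigma.ι_desc 𝒰.f i)⟩⟩
  refine ⟨_, g ≫ h, inferInstance, quasiCompact_of_compactSpace _, inferInstance, fun x => ⟨?_, ?_⟩⟩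
  · have := isAlgClosed_residueField (exists_root_aicCover A) x.asIdeal
    exact IsAlgClosed.of_ringEquiv _ _
      (Scheme.Spec.residueFieldIso (CommRingCat.of (AicCover A)) x).commRingCatIsoToRingEquiv.symm
  · have h1 : IsIso (h.residueFieldMap (g x)) := hiso _
    have h2 : (g.residueFieldMap x).hom.IsIntegral := by
      rw [Scheme.residueFieldMap_comp]
      have h3 : ∀ y, IsIso (X₀.isoSpec.inv.residueFieldMap y) := fun y => inferInstance
      refine isIntegral_comp _ _ ?_ ?_
      · exact RingHom.isIntegral_of_surjective _ (@asIso _ _ _ _ _ (h3 _)).commRingCatIsoToRingEquiv.surjective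
      · exact isIntegral_residueFieldMap_specMap φ (fun b => Algebra.IsIntegral.isIntegral (R := A) b) x
    rw [Scheme.residueFieldMap_comp]
    exact isIntegral_comp _ _
      (RingHom.isIntegral_of_surjective _ (@asIso _ _ _ _ _ h1).commRingCatIsoToRingEquiv.surjective) h2

end Groth.EtaleBaseTwo
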