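import Groth.Agent.EtaleBaseTwo.UnramifiedGeomUnibranch
import Groth.Agent.Pi1Etale.EqLocus
import Mathlib.Topology.LocallyFinite

/-!
# Rational sections of unramified morphisms at geometrically unibranch points
-/

set_option autoImplicit false
universe u

open CategoryTheory Limits AlgebraicGeometry TopologicalSpace

namespace Groth.EtaleBaseTwo

variable {X Y : Scheme.{u}}

/-- A point of a reduced scheme with geometrically unibranch local ring has an affine integral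
neighbourhood, provided the irreducible components form a locally finite family. -/
theorem exists_integral_affine_nhd [IsReduced Y]
    (hcomp : LocallyFinite (fun Z : ↥(irreducibleComponents ↥Y) => (Z : Set ↥Y)))
    (y : Y) (hy : CAlg2.IsGeomUnibranch (Y.presheaf.stalk y)) :
    ∃ W : Y.Opens, y ∈ W ∧ IsAffineOpen W ∧ IsIntegral W.toScheme := by
  obtain ⟨Z₀, ⟨hZ₀, hyZ₀⟩, huniq⟩ :=
    existsUnique_component_of_nilradical_isPrime (nilradical_isPrime_of_isGeomUnibranch hy)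
  let C : Set Y := ⋃ Z : {Z : ↥(irreducibleComponents ↥Y) // (Z : Set Y) ≠ Z₀}, (Z.1 : Set Y)
  have hC : IsClosed C := (hcomp.comp_injective Subtype.val_injective).isClosed_iUnion
    fun Z => isClosed_of_mem_irreducibleComponents _ Z.1.2
  have hyC : y ∉ C := fun h => by
    obtain ⟨Z, hZ⟩ := Set.mem_iUnion.mp h
    exact Z.2 (huniq _ ⟨Z.1.2, hZ⟩)
  obtain ⟨_, ⟨W₀, hW, rfl⟩, hyW, hWC⟩ :=
    Y.isBasis_affineOpens.exists_subset_of_mem_open (show y ∈ Cᶜ from hyC) hC.isOpen_compl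
  let W : Y.Opens := W₀
  have hWZ : (W : Set Y) ⊆ Z₀ := fun z hz => by
    by_contra h
    refine hWC hz (Set.mem_iUnion.mpr ⟨⟨⟨irreducibleComponent z,
      irreducibleComponent_mem_irreducibleComponents z⟩, fun he => h ?_⟩, mem_irreducibleComponent⟩)
    exact he ▸ mem_irreducibleComponent
  have hirr : IsPreirreducible (W : Set Y) := fun a b ha hb ⟨p, hpW, hpa⟩ ⟨q, hqW, hqb⟩ => by
    obtain ⟨r, -, ⟨hrW, hra⟩, -, hrb⟩ := hZ₀.1.2 (W ∩ a) (W ∩ b) (W.isOpen.inter ha) (W.isOpen.inter hb)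
      ⟨p, hWZ hpW, hpW, hpa⟩ ⟨q, hWZ hqW, hqW, hqb⟩
    exact ⟨r, hrW, hra, hrb⟩
  have : PreirreducibleSpace W.toScheme := Subtype.preirreducibleSpace hirr
  have : IrreducibleSpace W.toScheme := ⟨⟨⟨y, hyW⟩⟩⟩
  exact ⟨W, hyW, hW, isIntegral_of_irreducibleSpace_of_isReduced _⟩

/-- Near a point over a geometrically unibranch point, a quasi-finite étale scheme over an integral
scheme has a neighbourhood all of whose points specialise from one point. -/
theorem exists_nhd_forall_specializes (g : X ⟶ Y) [Etale g] [IsIntegral Y] [LocallyQuasiFinite g]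
    [QuasiCompact g] (x x' : X) (hu : CAlg2.IsGeomUnibranch (Y.presheaf.stalk (g x)))
    (hx' : x' ⤳ x) (hη : g x' = genericPoint Y) :
    ∃ U : X.Opens, x ∈ U ∧ x' ∈ U ∧ ∀ z ∈ U, x' ⤳ z := by
  let F : Set X := g ⁻¹' {genericPoint Y} \ {x'}
  have hF : F.Finite := (g.finite_preimage_singleton _).subset Set.diff_subset
  let U : X.Opens := ⟨(⋃ w ∈ F, closure {w})ᶜ, (hF.isClosed_biUnion fun _ _ => isClosed_closure).isOpen_compl⟩
  obtain ⟨Z₀, -, huniq⟩ := existsUnique_component_of_etale g x hu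
  have key : ∀ w, g w = genericPoint Y → w ⤳ x → closure {w} = Z₀ := by
    intro w hw hwx
    obtain ⟨Z, hZ, hle⟩ := exists_mem_irreducibleComponents_subset_of_isIrreducible _
      (isIrreducible_singleton (x := w))
    have hcl := isClosed_of_mem_irreducibleComponents Z hZ
    obtain ⟨ζ, hζ⟩ := QuasiSober.sober hZ.1 hcl
    rw [eq_genericPoint_of_fibre g hZ hζ (hle rfl) hw, hζ.def]
    exact huniq Z ⟨hZ, hwx.mem_closed hcl (hle rfl)⟩
  have hxU : x ∈ U := fun h => by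
    obtain ⟨w, ⟨hwη, hne⟩, hwx⟩ := Set.mem_iUnion₂.mp h
    have h1 : IsGenericPoint w Z₀ := key w hwη (specializes_iff_mem_closure.mpr hwx)
    have h2 : IsGenericPoint x' Z₀ := key x' hη hx'
    exact hne (h1.eq h2)
  refine ⟨U, hxU, hx'.mem_open U.isOpen hxU, fun z hz => ?_⟩
  obtain ⟨z', hz', hz'η⟩ := Flat.generalizingMap g (genericPoint_specializes (g z))
  by_cases he : z' = x'
  · exact he ▸ hz'
  · exact absurd (Set.mem_iUnion₂.mpr ⟨z', ⟨hz'η, he⟩, subset_closure (Set.mem_singleton z')⟩) (hz'.mem_open U.isOpen hz)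

/-- An étale separated morphism from a scheme with a dense point which has a section over a dense
open through that point is an open immersion. -/
theorem isOpenImmersion_of_section_dense (g : X ⟶ Y) [Etale g] [IsSeparated g]
    (U : Y.Opens) (hU : Dense (U : Set Y)) (u : U.toScheme ⟶ X) (hu : u ≫ g = U.ι)
    (x' : X) (hx' : x' ∈ Set.range u) (hgen : ∀ z, x' ⤳ z) : IsOpenImmersion g := by
  -- over `U` the section is inverse to `g`
  have h1 : (g ∣_ U) ≫ u = (g ⁻¹ᵁ U).ι := by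
    obtain ⟨t, ht⟩ := hx'
    let e : U.toScheme ⟶ (g ⁻¹ᵁ U).toScheme :=
      IsOpenImmersion.lift (g ⁻¹ᵁ U).ι u (by
        rintro _ ⟨s, rfl⟩
        rw [Scheme.Opens.range_ι]
        show g (u s) ∈ U
        rw [← Scheme.Hom.comp_apply, hu]
        exact s.2)
    have he : e ≫ (g ⁻¹ᵁ U).ι = u := IsOpenImmersion.lift_fac _ _ _
    have he' : e ≫ (g ∣_ U) = 𝟙 _ := by
      rw [← cancel_mono U.ι, Category.assoc, morphismRestrict_ι, reassoc_of% he, hu, Category.id_comp]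
    refine Groth.Pi1Etale.eq_of_comp_eq_of_denseRange g _ _ ?_ e
      (by rw [reassoc_of% he', he]) ?_
    · rw [Category.assoc, hu, morphismRestrict_ι]
    · refine fun z => closure_mono (Set.singleton_subset_iff.mpr (Set.mem_range_self t)) ?_
      refine specializes_iff_mem_closure.mp (Topology.IsInducing.subtypeVal.specializes_iff.mp ?_)
      have : (e t).1 = x' := by rw [← ht, ← he]; rfl
      show (e t).1 ⤳ z.1
      rw [this]; exact hgen _
  let P := pullback g g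
  let p : P ⟶ Y := pullback.fst g g ≫ g
  have hp : Etale p := inferInstance
  let W : P.Opens := p ⁻¹ᵁ U
  have hfac : ∀ q : P ⟶ X, q ≫ g = p → W.ι ≫ q = (p ∣_ U) ≫ u := fun q hq => by
    let l : W.toScheme ⟶ (g ⁻¹ᵁ U).toScheme := IsOpenImmersion.lift (g ⁻¹ᵁ U).ι (W.ι ≫ q) (by
      rintro _ ⟨s, rfl⟩
      rw [Scheme.Opens.range_ι]
      show g ((W.ι ≫ q) s) ∈ U
      rw [← Scheme.Hom.comp_apply, Category.assoc, hq]
      exact s.2)
    have hl : l ≫ (g ⁻¹ᵁ U).ι = W.ι ≫ q := IsOpenImmersion.lift_fac _ _ _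
    have : l ≫ (g ∣_ U) = p ∣_ U := by
      rw [← cancel_mono U.ι, Category.assoc, morphismRestrict_ι, morphismRestrict_ι,
        reassoc_of% hl, hq]
    rw [← this, Category.assoc, h1, hl]
  have heq : pullback.fst g g = pullback.snd g g := by
    refine Groth.Pi1Etale.eq_of_comp_eq_of_denseRange g _ _ pullback.condition W.ι ?_ ?_
    · rw [hfac _ rfl, hfac _ pullback.condition.symm]
    · show DenseRange W.ι
      rw [DenseRange, Scheme.Opens.range_ι]
      exact hU.preimage p.isOpenMap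
  have : Mono g := ⟨fun a b hab => by
    rw [← pullback.lift_fst a b hab, heq, pullback.lift_snd]⟩
  exact IsOpenImmersion.of_flat_of_mono g

/-- A rational section of a separated unramified morphism whose closure meets the fibre over a
geometrically unibranch point is defined at that point. -/
theorem exists_section_nhd [IsReduced Y]
    (hcomp : LocallyFinite (fun Z : ↥(irreducibleComponents ↥Y) => (Z : Set ↥Y)))
    (f : X ⟶ Y) [IsSeparated f] [LocallyOfFiniteType f] [FormallyUnramified f]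
    (U : Y.Opens) (hU : Dense (U : Set ↥Y)) (u : (U : Scheme.{u}) ⟶ X) (hu : u ≫ f = U.ι)
    (x : X) (hy : CAlg2.IsGeomUnibranch (Y.presheaf.stalk (f x)))
    (hx : x ∈ closure (Set.range u)) :
    ∃ (V : Y.Opens) (v : (V : Scheme.{u}) ⟶ X), f x ∈ V ∧ v ≫ f = V.ι ∧ x ∈ Set.range v ∧
      IsOpen (Set.range v) ∧
      Y.homOfLE (inf_le_left : U ⊓ V ≤ U) ≫ u = Y.homOfLE (inf_le_right : U ⊓ V ≤ V) ≫ v := by
  obtain ⟨W, hxW, hW, _⟩ := exists_integral_affine_nhd hcomp _ hy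
  have : IsAffine W.toScheme := hW
  have : IrreducibleSpace ↥W.toScheme := inferInstance
  have : QuasiSober ↥W.toScheme := inferInstance
  let η : W.toScheme := genericPoint ↥W.toScheme
  have hηU : η.1 ∈ U := by
    obtain ⟨z, hzW, hzU⟩ := hU.inter_open_nonempty _ W.isOpen ⟨_, hxW⟩
    exact ((genericPoint_specializes (α := ↥W.toScheme) ⟨z, hzW⟩).map W.ι.continuous).mem_open U.isOpen hzU
  let x' : X := u ⟨η.1, hηU⟩
  have hfx' : f x' = η.1 := by
    show (u ≫ f) ⟨η.1, hηU⟩ = η.1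
    rw [hu]; rfl
  have hx' : x' ⤳ x := by
    rw [specializes_iff_forall_open]
    intro O hO hxO
    obtain ⟨_, ⟨hzO, hzW⟩, z, rfl⟩ := mem_closure_iff.mp hx (O ∩ f ⁻¹' (W : Set Y))
      (hO.inter (W.isOpen.preimage f.continuous)) ⟨hxO, hxW⟩
    have hzW' : z.1 ∈ W := by
      have : (u ≫ f) z ∈ W := hzW
      rwa [hu] at this
    have h : (⟨η.1, hηU⟩ : U.toScheme) ⤳ z := Topology.IsInducing.subtypeVal.specializes_iff.mp
      ((genericPoint_specializes (α := ↥W.toScheme) ⟨z.1, hzW'⟩).map W.ι.continuous)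
    exact (h.map u.continuous).mem_open hO hzO
  -- restrict to an affine étale neighbourhood of `x` over `W`
  let XW : X.Opens := f ⁻¹ᵁ W
  have hx'W : x' ∈ XW := show f x' ∈ W by rw [hfx']; exact η.2
  let fW : XW.toScheme ⟶ W.toScheme := f ∣_ W
  have huW : ∀ z : XW.toScheme, (fW z).1 = f z.1 := fun z => by
    show (fW ≫ W.ι) z = f z.1
    rw [morphismRestrict_ι]; rfl
  have hgu : CAlg2.IsGeomUnibranch (W.toScheme.presheaf.stalk (fW ⟨x, hxW⟩)) :=
    isGeomUnibranch_stalk_of_etale W.ι _ (by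
      show CAlg2.IsGeomUnibranch (Y.presheaf.stalk (fW ⟨x, hxW⟩).1)
      rw [huW]; exact hy)
  have : LocallyOfFiniteType fW := IsZariskiLocalAtTarget.restrict ‹_› W
  have : FormallyUnramified fW := IsZariskiLocalAtTarget.restrict ‹_› W
  have hη' : fW ⟨x', hx'W⟩ = genericPoint W.toScheme := Subtype.ext ((huW _).trans hfx')
  obtain ⟨O, hxO, hO⟩ := exists_etale_nhd_of_formallyUnramified fW ⟨x, hxW⟩ hgu
    ⟨⟨x', hx'W⟩, Topology.IsInducing.subtypeVal.specializes_iff.mp hx', hη'⟩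
  obtain ⟨_, ⟨A₀, hA, rfl⟩, hxA, hAO⟩ :=
    XW.toScheme.isBasis_affineOpens.exists_subset_of_mem_open (a := (⟨x, hxW⟩ : XW.toScheme)) (u := (O : Set XW.toScheme)) hxO O.isOpen
  let A : XW.toScheme.Opens := A₀
  have : IsAffine A.toScheme := hA
  let gA : A.toScheme ⟶ W.toScheme := A.ι ≫ fW
  have : Etale gA := by
    show Etale (A.ι ≫ fW)
    rw [← Scheme.homOfLE_ι _ (show A ≤ O from hAO), Category.assoc]
    infer_instance
  have : IsAffineHom gA := inferInstance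
  have hx'A : (⟨x', hx'W⟩ : XW.toScheme) ∈ A :=
    (Topology.IsInducing.subtypeVal.specializes_iff.mp hx' : (⟨x', hx'W⟩ : XW.toScheme) ⤳ ⟨x, hxW⟩).mem_open
      A.isOpen hxA
  obtain ⟨B, hxB, hx'B, hB⟩ := exists_nhd_forall_specializes gA ⟨⟨x, hxW⟩, hxA⟩ ⟨⟨x', hx'W⟩, hx'A⟩
    hgu (Topology.IsInducing.subtypeVal.specializes_iff.mp
      (Topology.IsInducing.subtypeVal.specializes_iff.mp hx')) hη'
  -- the neighbourhood inside `X`
  let j : B.toScheme ⟶ X := B.ι ≫ A.ι ≫ XW.ι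
  let g : B.toScheme ⟶ W.toScheme := B.ι ≫ gA
  have hjg : j ≫ f = g ≫ W.ι := by
    simp only [j, g, gA, fW, Category.assoc, morphismRestrict_ι]
    rfl
  have : IsSeparated g := inferInstance
  have hηg : η ∈ Set.range g := ⟨⟨⟨⟨x', hx'W⟩, hx'A⟩, hx'B⟩, hη'⟩
  -- the part of `U` where the section lands in `B`
  let U₂ : U.toScheme.Opens := u ⁻¹ᵁ j.opensRange
  let u₂ : (U.ι ''ᵁ U₂).toScheme ⟶ B.toScheme :=
    IsOpenImmersion.lift j ((U.ι.isoImage U₂).inv ≫ U₂.ι ≫ u) (by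
      rintro _ ⟨s, rfl⟩
      exact ((U.ι.isoImage U₂).inv s).2)
  have hu₂ : u₂ ≫ j = (U.ι.isoImage U₂).inv ≫ U₂.ι ≫ u := IsOpenImmersion.lift_fac _ _ _
  have hu₂f : u₂ ≫ g ≫ W.ι = (U.ι ''ᵁ U₂).ι := by
    rw [← hjg, reassoc_of% hu₂, hu, Scheme.Hom.isoImage_inv_ι]
  let UW : W.toScheme.Opens := W.ι ⁻¹ᵁ (U.ι ''ᵁ U₂)
  let u₃ : UW.toScheme ⟶ B.toScheme := (W.ι ∣_ (U.ι ''ᵁ U₂)) ≫ u₂
  have hu₃ : u₃ ≫ g = UW.ι := by
    rw [← cancel_mono W.ι, Category.assoc, Category.assoc, hu₂f, morphismRestrict_ι]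
  let b' : B.toScheme := ⟨⟨⟨x', hx'W⟩, hx'A⟩, hx'B⟩
  have hηU₂ : η ∈ UW := ⟨⟨η.1, hηU⟩, ⟨b', rfl⟩, rfl⟩
  have hUW : Dense (UW : Set W.toScheme) := UW.isOpen.dense ⟨η, hηU₂⟩
  have hb' : u₃ ⟨η, hηU₂⟩ = b' := by
    have hinj : Function.Injective j := j.isOpenEmbedding.injective
    apply hinj
    show ((W.ι ∣_ (U.ι ''ᵁ U₂)) ≫ u₂ ≫ j) ⟨η, hηU₂⟩ = x'
    rw [hu₂]
    show u _ = u _
    congr 1
    apply Subtype.ext
    show ((W.ι ∣_ (U.ι ''ᵁ U₂)) ≫ (U.ι.isoImage U₂).inv ≫ U₂.ι ≫ U.ι) ⟨η, hηU₂⟩ = η.1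
    rw [Scheme.Hom.isoImage_inv_ι, morphismRestrict_ι]
    rfl
  have : IsOpenImmersion g := isOpenImmersion_of_section_dense g UW hUW u₃ hu₃ b' ⟨_, hb'⟩
    fun z => Topology.IsInducing.subtypeVal.specializes_iff.mp (hB z.1 z.2)
  -- the inverse
  have : IsOpenImmersion (g ≫ W.ι) := inferInstance
  let h := g ≫ W.ι
  let v : h.opensRange.toScheme ⟶ X := h.isoOpensRange.inv ≫ j
  have hv : v ≫ f = h.opensRange.ι := by
    simp only [v, Category.assoc, hjg]
    exact h.isoOpensRange_inv_comp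
  refine ⟨h.opensRange, v, ⟨⟨⟨⟨x, hxW⟩, hxA⟩, hxB⟩, ?_⟩, hv, ?_, ?_, ?_⟩
  · show (g ≫ W.ι) _ = f x
    rw [← hjg]; rfl
  · refine ⟨h.isoOpensRange.hom ⟨⟨⟨x, hxW⟩, hxA⟩, hxB⟩, ?_⟩
    show (h.isoOpensRange.hom ≫ h.isoOpensRange.inv ≫ j) _ = x
    rw [Iso.hom_inv_id_assoc]; rfl
  · exact v.isOpenEmbedding.isOpen_range
  · set V := h.opensRange
    let e : (U.ι ''ᵁ U₂ ⊓ V).toScheme ⟶ (U ⊓ V).toScheme :=
      Y.homOfLE (inf_le_inf_right V (U.ι_image_le U₂))
    refine Groth.Pi1Etale.eq_of_comp_eq_of_denseRange f _ _ (by simp [hu, hv]) e ?_ ?_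
    · have h1 : Y.homOfLE (inf_le_left : U.ι ''ᵁ U₂ ⊓ V ≤ _) ≫ u₂ =
          Y.homOfLE (inf_le_right : U.ι ''ᵁ U₂ ⊓ V ≤ V) ≫ h.isoOpensRange.inv := by
        rw [← cancel_mono h]
        simp only [h, Category.assoc, hu₂f]
        rw [show h.isoOpensRange.inv ≫ g ≫ W.ι = V.ι from h.isoOpensRange_inv_comp]
        simp
      have h2 := congrArg (· ≫ j) h1
      simp only [Category.assoc, hu₂] at h2
      simp only [e, ← Category.assoc, Scheme.homOfLE_homOfLE]
      rw [Category.assoc] at *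
      rw [← h2, ← Category.assoc, ← Category.assoc]
      congr 1
      rw [← cancel_mono U.ι]
      simp
    · intro z
      rw [mem_closure_iff]
      intro o ho hzo
      obtain ⟨o', ho', rfl⟩ := isOpen_induced_iff.mp ho
      have hzW : z.1 ∈ W := by
        obtain ⟨b, hb⟩ := z.2.2
        rw [← hb]
        exact (g b).2
      have hηz : η.1 ⤳ z.1 :=
        (genericPoint_specializes (α := ↥W.toScheme) ⟨z.1, hzW⟩).map W.ι.continuous
      have hηV : η.1 ∈ V := hηz.mem_open V.isOpen z.2.2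
      refine ⟨⟨η.1, hηU, hηV⟩, hηz.mem_open ho' hzo, ⟨η.1, hηU₂, hηV⟩, ?_⟩
      apply Subtype.ext
      show (e ≫ (U ⊓ V).ι) _ = η.1
      rw [Scheme.homOfLE_ι]
      rfl

end Groth.EtaleBaseTwo
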