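import Groth.Prelude.Def_W4c1etweilhu916Glue
import Groth.Agent.EtaleBase.Recollement
import Groth.Agent.EtaleBase.PushEssImage
import Mathlib.CategoryTheory.Limits.Shapes.Pullback.IsPullback.Basic

/-!
# Recollement: abelian etale sheaves as triples
-/

set_option autoImplicit false

universe u

open CategoryTheory CategoryTheory.Limits AlgebraicGeometry Opposite

noncomputable section

namespace Groth.EtaleBaseTwo

open Groth.EtaleBase

variable {X Z U : Scheme.{u}} (i : Z ⟶ X) (j : U ⟶ X)

/-- The category of glueing triples. -/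
abbrev Triples := Comma (𝟭 (EtCoh.Ab Z)) (EtCoh.push j ⋙ EtCoh.pull i)

variable {i j}

/-- The sheaf glued from a triple. -/
abbrev glue (t : Triples i j) : EtCoh.Ab X :=
  pullback ((EtCoh.push i).map t.hom) ((EtCoh.pullPushAdj i).unit.app ((EtCoh.push j).obj t.right))

theorem glue_cond (F : EtCoh.Ab X) (t : Triples i j) (a : (EtCoh.pull i).obj F ⟶ t.left)
    (b : (EtCoh.pull j).obj F ⟶ t.right) :
    ((EtCoh.pullPushAdj i).homEquiv F t.left a ≫ (EtCoh.push i).map t.hom =
      (EtCoh.pullPushAdj j).homEquiv F t.right b ≫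
        (EtCoh.pullPushAdj i).unit.app ((EtCoh.push j).obj t.right)) ↔
    a ≫ t.hom = (EtCoh.pull i).map ((EtCoh.pullPushAdj j).unit.app F) ≫
        (EtCoh.pull i).map ((EtCoh.push j).map b) := by
  let P := EtCoh.pullPushAdj i
  have h1 : P.homEquiv F t.left a ≫ (EtCoh.push i).map t.hom = P.homEquiv F _ (a ≫ t.hom) :=
    (P.homEquiv_naturality_right a t.hom).symm
  have h2 : (EtCoh.pullPushAdj j).homEquiv F t.right b ≫ P.unit.app ((EtCoh.push j).obj t.right) =
      P.homEquiv F _ ((EtCoh.pull i).map ((EtCoh.pullPushAdj j).unit.app F) ≫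
        (EtCoh.pull i).map ((EtCoh.push j).map b)) := by
    rw [← Functor.map_comp, ← Adjunction.homEquiv_unit, Adjunction.homEquiv_unit (adj := P)]
    exact P.unit.naturality _
  rw [h1, h2]
  exact (P.homEquiv F _).injective.eq_iff

/-- Morphisms from the triple of a sheaf are morphisms into the glued sheaf. -/
def glueHomEquiv (F : EtCoh.Ab X) (t : Triples i j) :
    ((EtCore.recollTriple i j).obj F ⟶ t) ≃ (F ⟶ glue t) where
  toFun ψ := pullback.lift ((EtCoh.pullPushAdj i).homEquiv F t.left ψ.left)
    ((EtCoh.pullPushAdj j).homEquiv F t.right ψ.right) ((glue_cond F t ψ.left ψ.right).mpr ψ.w)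
  invFun φ :=
    { left := ((EtCoh.pullPushAdj i).homEquiv F t.left).symm (φ ≫ pullback.fst _ _)
      right := ((EtCoh.pullPushAdj j).homEquiv F t.right).symm (φ ≫ pullback.snd _ _)
      w := (glue_cond F t (((EtCoh.pullPushAdj i).homEquiv F t.left).symm (φ ≫ pullback.fst _ _))
          (((EtCoh.pullPushAdj j).homEquiv F t.right).symm (φ ≫ pullback.snd _ _))).mp
        ((congrArg (· ≫ _) (Equiv.apply_symm_apply _ (φ ≫ pullback.fst _ _))).trans
          ((Category.assoc _ _ _).trans ((congrArg (φ ≫ ·) pullback.condition).trans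
            ((Category.assoc _ _ _).symm.trans
              (congrArg (· ≫ _) (Equiv.apply_symm_apply _ (φ ≫ pullback.snd _ _)).symm))))) }
  left_inv ψ := by
    apply CommaMorphism.ext
    · exact (congrArg ((EtCoh.pullPushAdj i).homEquiv F t.left).symm (pullback.lift_fst _ _ _)).trans
        (Equiv.symm_apply_apply _ _)
    · exact (congrArg ((EtCoh.pullPushAdj j).homEquiv F t.right).symm (pullback.lift_snd _ _ _)).trans
        (Equiv.symm_apply_apply _ _)
  right_inv φ := by
    apply pullback.hom_ext
    · exact (pullback.lift_fst _ _ _).trans (Equiv.apply_symm_apply _ _)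
    · exact (pullback.lift_snd _ _ _).trans (Equiv.apply_symm_apply _ _)

theorem glueHomEquiv_naturality_left {F' F : EtCoh.Ab X} {t : Triples i j} (f : F' ⟶ F)
    (g : F ⟶ glue t) :
    (glueHomEquiv F' t).symm (f ≫ g) = (EtCore.recollTriple i j).map f ≫ (glueHomEquiv F t).symm g := by
  apply CommaMorphism.ext
  · exact (congrArg _ (Category.assoc _ _ _)).trans
      ((EtCoh.pullPushAdj i).homEquiv_naturality_left_symm f (g ≫ pullback.fst _ _))
  · exact (congrArg _ (Category.assoc _ _ _)).trans
      ((EtCoh.pullPushAdj j).homEquiv_naturality_left_symm f (g ≫ pullback.snd _ _))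

/-- The glueing functor. -/
def glueFunctor : Triples i j ⥤ EtCoh.Ab X :=
  Adjunction.rightAdjointOfEquiv (F := EtCore.recollTriple i j) (G_obj := glue) glueHomEquiv
    fun F' F t f g => by
      apply pullback.hom_ext
      · rw [Category.assoc]
        exact (pullback.lift_fst _ _ _).trans (((EtCoh.pullPushAdj i).homEquiv_naturality_left f g.left).trans
          (congrArg (f ≫ ·) (pullback.lift_fst _ _ _).symm))
      · rw [Category.assoc]
        exact (pullback.lift_snd _ _ _).trans (((EtCoh.pullPushAdj j).homEquiv_naturality_left f g.right).trans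
          (congrArg (f ≫ ·) (pullback.lift_snd _ _ _).symm))

/-- Glueing is right adjoint to taking triples. -/
def glueAdj : EtCore.recollTriple i j ⊣ glueFunctor :=
  Adjunction.adjunctionOfEquivRight (F := EtCore.recollTriple i j) (G_obj := glue) glueHomEquiv _

theorem glueAdj_counit (t : Triples i j) :
    glueAdj.counit.app t = (glueHomEquiv (glue t) t).symm (𝟙 _) := rfl

theorem isIso_triple {t t' : Triples i j} (f : t ⟶ t') (hl : IsIso f.left) (hr : IsIso f.right) : IsIso f := by
  have e : (Comma.isoMk (asIso f.left) (asIso f.right) f.w).hom = f := CommaMorphism.ext rfl rfl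
  exact e ▸ inferInstance

variable [IsClosedImmersion i] [IsOpenImmersion j] (hZU : Set.range j.base = (Set.range i.base)ᶜ)

include hZU

theorem isIso_of_pull_isIso {F G : EtCoh.Ab X} (φ : F ⟶ G) (hi : IsIso ((EtCoh.pull i).map φ))
    (hj : IsIso ((EtCoh.pull j).map φ)) : IsIso φ := by
  refine isIso_of_exists_stalk φ fun s => ?_
  by_cases hs : s ∈ Set.range i.base
  · obtain ⟨z, rfl⟩ := hs
    refine ⟨SeparableClosure (Z.residueField z), inferInstance, inferInstance, geomPoint z ≫ i,
      (Scheme.Hom.comp_apply _ i _).trans (congrArg (fun y => i.base y) (geomPoint_apply z _)), ?_⟩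
    have : IsIso ((EtCoh.stalk (geomPoint z ≫ i)).map φ) :=
      (NatIso.isIso_map_iff (stalkPullIso i (geomPoint z)) φ).2
        (inferInstanceAs (IsIso ((EtCoh.stalk (geomPoint z)).map ((EtCoh.pull i).map φ))))
    exact (ConcreteCategory.isIso_iff_bijective _).1 this
  · obtain ⟨v, rfl⟩ : s ∈ Set.range j.base := hZU ▸ hs
    refine ⟨SeparableClosure (U.residueField v), inferInstance, inferInstance, geomPoint v ≫ j,
      (Scheme.Hom.comp_apply _ j _).trans (congrArg (fun y => j.base y) (geomPoint_apply v _)), ?_⟩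
    have : IsIso ((EtCoh.stalk (geomPoint v ≫ j)).map φ) :=
      (NatIso.isIso_map_iff (stalkPullIso j (geomPoint v)) φ).2
        (inferInstanceAs (IsIso ((EtCoh.stalk (geomPoint v)).map ((EtCoh.pull j).map φ))))
    exact (ConcreteCategory.isIso_iff_bijective _).1 this

omit [IsOpenImmersion j] in
theorem isZero_pull_push (G : EtCoh.Ab Z) : IsZero ((EtCoh.pull j).obj ((EtCoh.push i).obj G)) := by
  rw [IsZero.iff_id_eq_zero]
  refine stalkAt_jointlyReflectIsomorphisms.jointlyFaithful.map_injective fun v => ?_
  have h0 : IsZero ((EtCoh.stalk (geomPoint v)).obj ((EtCoh.pull j).obj ((EtCoh.push i).obj G))) := by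
    refine IsZero.of_iso ?_ ((stalkPullIso j (geomPoint v)).app _).symm
    refine isZero_stalk_push i i.isClosedEmbedding.isClosed_range _ ?_ G
    intro h
    have h' : j.base v ∈ Set.range j.base := ⟨v, rfl⟩
    rw [hZU] at h'
    exact h' (by rwa [Scheme.Hom.comp_apply, geomPoint_apply] at h)
  exact h0.eq_of_src _ _

theorem isIso_counit_glue (t : Triples i j) : IsIso (glueAdj.counit.app t) := by
  rw [glueAdj_counit]
  have hci : ∀ G, IsIso ((EtCoh.pullPushAdj i).counit.app G) := fun G => isIso_counit i G
  have hcj : ∀ G, IsIso ((EtCoh.pullPushAdj j).counit.app G) := fun G => isIso_counit_openImmersion j G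
  have sq := IsPullback.of_hasPullback ((EtCoh.push i).map t.hom)
    ((EtCoh.pullPushAdj i).unit.app ((EtCoh.push j).obj t.right))
  refine isIso_triple _ ?_ ?_
  · show IsIso (((EtCoh.pullPushAdj i).homEquiv (glue t) t.left).symm (𝟙 _ ≫ pullback.fst _ _))
    rw [Category.id_comp, Adjunction.homEquiv_counit]
    have : IsIso ((EtCoh.pull i).map ((EtCoh.pullPushAdj i).unit.app ((EtCoh.push j).obj t.right))) := by
      have h2 : IsIso ((EtCoh.pull i).map ((EtCoh.pullPushAdj i).unit.app ((EtCoh.push j).obj t.right)) ≫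
          (EtCoh.pullPushAdj i).counit.app ((EtCoh.pull i).obj ((EtCoh.push j).obj t.right))) := by
        erw [(EtCoh.pullPushAdj i).left_triangle_components]; exact inferInstanceAs (IsIso (𝟙 _))
      exact IsIso.of_isIso_comp_right _
        ((EtCoh.pullPushAdj i).counit.app ((EtCoh.pull i).obj ((EtCoh.push j).obj t.right)))
    have := (sq.map (EtCoh.pull i)).isIso_fst_of_isIso
    infer_instance
  · show IsIso (((EtCoh.pullPushAdj j).homEquiv (glue t) t.right).symm (𝟙 _ ≫ pullback.snd _ _))
    rw [Category.id_comp, Adjunction.homEquiv_counit]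
    have : IsIso ((EtCoh.pull j).map ((EtCoh.push i).map t.hom)) :=
      ⟨0, (isZero_pull_push hZU _).eq_of_src _ _, (isZero_pull_push hZU _).eq_of_src _ _⟩
    have := (sq.map (EtCoh.pull j)).isIso_snd_of_isIso
    infer_instance

theorem recollTriple_isEquivalence : (EtCore.recollTriple i j).IsEquivalence := by
  have h1 : ∀ t, IsIso (glueAdj.counit.app t) := isIso_counit_glue (i := i) (j := j) hZU
  have h2 : ∀ F, IsIso ((glueAdj (i := i) (j := j)).unit.app F) := fun F => by
    have h : IsIso ((EtCore.recollTriple i j).map ((glueAdj (i := i) (j := j)).unit.app F)) := by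
      have h3 : IsIso ((EtCore.recollTriple i j).map ((glueAdj (i := i) (j := j)).unit.app F) ≫
          glueAdj.counit.app ((EtCore.recollTriple i j).obj F)) := by
        erw [glueAdj.left_triangle_components]; exact inferInstanceAs (IsIso (𝟙 _))
      have := h1 ((EtCore.recollTriple i j).obj F)
      exact IsIso.of_isIso_comp_right _ (glueAdj.counit.app ((EtCore.recollTriple i j).obj F))
    exact isIso_of_pull_isIso hZU _
      (inferInstanceAs (IsIso ((Comma.fst _ _).map ((EtCore.recollTriple i j).map (glueAdj.unit.app F)))))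
      (inferInstanceAs (IsIso ((Comma.snd _ _).map ((EtCore.recollTriple i j).map (glueAdj.unit.app F)))))
  exact (glueAdj (i := i) (j := j)).toEquivalence.isEquivalence_functor

end Groth.EtaleBaseTwo
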