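import Groth.Agent.EtaleBaseTwo.EtaleComponents
import Groth.Agent.EtaleBase.EtaleLocalAlg
import Groth.Agent.EtaleAlgebra.FlatUnramFP
import Groth.Agent.DescentBase.SourceLocal
import Mathlib.RingTheory.Unramified.LocalStructure
import Mathlib.AlgebraicGeometry.FunctionField

/-!
# Unramified dominant morphisms over geometrically unibranch points are étale
-/

set_option autoImplicit false
universe u

open CategoryTheory Limits AlgebraicGeometry TopologicalSpace

namespace Groth.EtaleBaseTwo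

/-- Near a prime over a geometrically unibranch point, an unramified algebra over a domain with a
generization over the zero ideal is étale. -/
theorem exists_etale_away (R S : Type u) [CommRing R] [IsDomain R] [CommRing S] [Algebra R S]
    [Algebra.FiniteType R S] [Algebra.FormallyUnramified R S] (Q : Ideal S) [Q.IsPrime]
    (Rp : Type u) [CommRing Rp] [IsLocalRing Rp] [Algebra R Rp] [IsLocalization.AtPrime Rp (Q.under R)]
    (hu : CAlg2.IsGeomUnibranch Rp) (q : Ideal S) [q.IsPrime] (hq : q ≤ Q) (hq0 : q.under R = ⊥) :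
    ∃ h ∉ Q, Algebra.Etale R (Localization.Away h) := by
  classical
  have : Algebra.IsUnramifiedAt R Q := Algebra.FormallyUnramified.comp R S _
  obtain ⟨f, hfQ, P, φ, hφ⟩ := Algebra.IsUnramifiedAt.exists_hasStandardEtaleSurjectionOn (R := R) Q
  let A := P.Ring
  let Sf := Localization.Away f
  -- the primes in `S[1/f]` and in the étale algebra
  have hdisj : ∀ J : Ideal S, J.IsPrime → J ≤ Q → Disjoint (Submonoid.powers f : Set S) J := by
    intro J _ hJ
    rw [Set.disjoint_left]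
    rintro _ ⟨n, rfl⟩ h
    exact hfQ (‹Q.IsPrime›.mem_of_pow_mem n (hJ h))
  let QS : Ideal Sf := Q.map (algebraMap S Sf)
  let qS : Ideal Sf := q.map (algebraMap S Sf)
  have : QS.IsPrime := IsLocalization.isPrime_of_isPrime_disjoint _ _ Q inferInstance (hdisj Q inferInstance le_rfl)
  have : qS.IsPrime := IsLocalization.isPrime_of_isPrime_disjoint _ _ q inferInstance (hdisj q inferInstance hq)
  have hQS : QS.comap (algebraMap S Sf) = Q :=
    IsLocalization.under_map_of_isPrime_disjoint _ _ inferInstance (hdisj Q inferInstance le_rfl)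
  have hqS : qS.comap (algebraMap S Sf) = q :=
    IsLocalization.under_map_of_isPrime_disjoint _ _ inferInstance (hdisj q inferInstance hq)
  let QA : Ideal A := QS.comap φ
  let qA : Ideal A := qS.comap φ
  have hqA : qA ≤ QA := Ideal.comap_mono (Ideal.map_mono hq)
  have hunder : ∀ J : Ideal Sf, (J.comap φ).under R = (J.comap (algebraMap S Sf)).under R := fun J => by
    ext r
    show φ (algebraMap R A r) ∈ J ↔ algebraMap S Sf (algebraMap R S r) ∈ J
    rw [φ.commutes, ← IsScalarTower.algebraMap_apply]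
  have hQA : QA.under R = Q.under R := (hunder QS).trans (by rw [hQS])
  have hqA0 : qA.under R = ⊥ := (hunder qS).trans (by rw [hqS, hq0])
  -- `A` is reduced and its local ring at `QA` is a domain
  have hred : _root_.IsReduced A := by
    refine isReduced_ofLocalizationMaximal A fun J hJ => ?_
    exact Groth.EtaleBase.isReduced_atPrime_of_etale R A J
  have : QA.LiesOver (Q.under R) := ⟨hQA.symm⟩
  let B := Localization.AtPrime QA
  let _ : Algebra Rp B := (IsLocalization.lift (S := Rp) (g := algebraMap R B)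
    (M := (Q.under R).primeCompl) fun y => by
      rw [IsScalarTower.algebraMap_apply R A B]
      exact (IsLocalization.AtPrime.isUnit_to_map_iff B QA _).mpr fun h =>
        y.2 ((QA.mem_of_liesOver (Q.under R) _).mpr h)).toAlgebra
  have : IsScalarTower R Rp B := .of_algebraMap_eq fun r => (IsLocalization.lift_eq _ r).symm
  obtain ⟨hloc, hess⟩ := Groth.Hensel1.isEssentiallyEtale_of_isLocalization R A (Q.under R) QA Rp B
  have hdom : IsDomain B := by
    have h := nilradical_isPrime_of_isGeomUnibranch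
      ((Groth.Hensel1.isGeomUnibranch_iff_of_essentiallyEtale hess).1.mp hu)
    rw [nilradical_eq_zero B] at h
    exact IsDomain.of_bot_isPrime (hbp := h)
  -- the unique minimal prime below `QA`
  let P0 : Ideal A := (⊥ : Ideal B).comap (algebraMap A B)
  have : P0.IsPrime := Ideal.IsPrime.comap _
  have hP0 : ∀ J : Ideal A, J.IsPrime → J ≤ QA → P0 ≤ J := by
    intro J _ hJ x hx
    have hd : Disjoint (QA.primeCompl : Set A) J := Set.disjoint_left.mpr fun y hy h => hy (hJ h)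
    rw [← IsLocalization.under_map_of_isPrime_disjoint QA.primeCompl B inferInstance hd]
    show algebraMap A B x ∈ J.map (algebraMap A B)
    rw [show algebraMap A B x = 0 from hx]
    exact zero_mem _
  have hP0q : P0 = qA := Algebra.QuasiFinite.eq_of_le_of_under_eq (R := R) P0 qA (hP0 qA inferInstance hqA) (by
    rw [hqA0, eq_bot_iff, ← hqA0]
    exact Ideal.comap_mono (hP0 qA inferInstance hqA))
  -- an element killing the kernel
  have hmin : (minimalPrimes A).Finite := by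
    refine Groth.EtaleAlgebra.finite_minimalPrimes_of_etale (A := R) ?_
    rw [IsDomain.minimalPrimes_eq_singleton_bot]
    exact Set.finite_singleton _
  have hsel : ∀ M ∈ hmin.toFinset.erase P0, ∃ g ∈ M, g ∉ QA := by
    intro M hM
    rw [Finset.mem_erase, Set.Finite.mem_toFinset] at hM
    by_contra! h
    have hMp : M.IsPrime := hM.2.1.1
    exact hM.1 (le_antisymm (hM.2.2 ⟨inferInstance, bot_le⟩ (hP0 M hMp h)) (hP0 M hMp h))
  choose g hg hgQ using hsel
  let G : A := ∏ M : {M // M ∈ hmin.toFinset.erase P0}, g M.1 M.2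
  have hG : G ∉ QA := fun h => by
    obtain ⟨M, -, hM⟩ := Ideal.IsPrime.prod_mem_iff.mp h
    exact hgQ M.1 M.2 hM
  have hkill : ∀ a, φ a = 0 → G * a = 0 := by
    intro a ha
    have haq : a ∈ P0 := hP0q ▸ (show φ a ∈ qS by rw [ha]; exact zero_mem _)
    have : G * a ∈ nilradical A := by
      rw [nilradical_eq_sInf]
      refine Ideal.mem_sInf.mpr fun {J} hJ => ?_
      have hJp : J.IsPrime := hJ
      obtain ⟨M, hM, hMJ⟩ := Ideal.exists_minimalPrimes_le (I := (⊥ : Ideal A)) (J := J) bot_le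
      refine hMJ ?_
      by_cases hMP : M = P0
      · exact Ideal.mul_mem_left _ _ (hMP ▸ haq)
      · exact Ideal.mul_mem_right _ _ (Ideal.mem_of_dvd _
          (Finset.dvd_prod_of_mem (f := fun M : {M // M ∈ hmin.toFinset.erase P0} => g M.1 M.2)
            (a := ⟨M, Finset.mem_erase.mpr ⟨hMP, hmin.mem_toFinset.mpr hM⟩⟩) (Finset.mem_univ _)) (hg M _))
    rw [nilradical_eq_zero A] at this
    exact this
  -- move `G` so that its image is an element of `S`
  obtain ⟨n, h₀, hh₀⟩ := IsLocalization.Away.surj f (φ G)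
  obtain ⟨c, hc⟩ := hφ (algebraMap S Sf f ^ n)
  let G' := G * c
  have hG' : φ G' = algebraMap S Sf h₀ := by rw [map_mul, hc, hh₀]
  have hcQ : c ∉ QA := fun h => by
    have h' : algebraMap S Sf f ^ n ∈ QS := hc ▸ h
    have h'' : f ^ n ∈ QS.comap (algebraMap S Sf) := by rw [Ideal.mem_comap, map_pow]; exact h'
    rw [hQS] at h''
    exact hfQ (‹Q.IsPrime›.mem_of_pow_mem n h'')
  have hG'Q : G' ∉ QA := fun h => (Ideal.IsPrime.mem_or_mem inferInstance h).elim hG hcQ
  have hh₀Q : h₀ ∉ Q := fun h => hG'Q (show φ G' ∈ QS by rw [hG']; exact Ideal.mem_map_of_mem _ h)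
  refine ⟨f * h₀, ‹Q.IsPrime›.mul_notMem hfQ hh₀Q, ?_⟩
  let T := Localization.Away (φ G')
  let ψ : Localization.Away G' →ₐ[R] T := IsLocalization.Away.mapₐ _ _ φ G'
  have hψs : Function.Surjective ψ := IsLocalization.Away.mapₐ_surjective_of_surjective G' hφ
  have hψi : Function.Injective ψ := by
    rw [injective_iff_map_eq_zero]
    intro z hz
    obtain ⟨a, s, rfl⟩ := IsLocalization.exists_mk'_eq (Submonoid.powers G') z
    have h1 : algebraMap Sf T (φ a) = 0 := by
      have h2 := congrArg ψ (IsLocalization.mk'_spec (Localization.Away G') a s)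
      rw [map_mul, hz, zero_mul] at h2
      have h4 : ψ (algebraMap A (Localization.Away G') a) = algebraMap Sf T (φ a) := by
        simp [ψ, T, IsLocalization.Away.mapₐ, IsLocalization.Away.map]
        exact IsLocalization.map_eq _ a
      exact h4.symm.trans h2.symm
    obtain ⟨⟨_, k, rfl⟩, hk⟩ := (IsLocalization.map_eq_zero_iff (Submonoid.powers (φ G')) T _).mp h1
    have h3 : G * (G' ^ k * a) = 0 := hkill _ (by rw [map_mul, map_pow]; exact hk)
    rw [IsLocalization.mk'_eq_zero_iff]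
    exact ⟨⟨G' ^ (k + 1), k + 1, rfl⟩, by
      show G' ^ (k + 1) * a = 0
      rw [pow_succ', mul_assoc, show G' = c * G from mul_comm _ _, mul_assoc, ← show G' = c * G from mul_comm _ _, h3, mul_zero]⟩
  have : IsLocalization.Away (f * h₀) T := by
    have : IsLocalization.Away (algebraMap S Sf h₀) T := by rw [← hG']; infer_instance
    exact .mul' Sf _ _ _
  have : Algebra.Etale A (Localization.Away G') := Algebra.Etale.of_isLocalizationAway G'
  have : Algebra.Etale R (Localization.Away G') := Algebra.Etale.comp R A _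
  exact Algebra.Etale.of_equiv ((AlgEquiv.ofBijective ψ ⟨hψi, hψs⟩).trans
    ((IsLocalization.algEquiv (Submonoid.powers (f * h₀)) T (Localization.Away (f * h₀))).restrictScalars R))

variable {X Y : Scheme.{u}}

theorem exists_etale_nhd_of_formallyUnramified (f : X ⟶ Y) [IsIntegral Y] [LocallyOfFiniteType f]
    [FormallyUnramified f] (x : X) (hY : CAlg2.IsGeomUnibranch (Y.presheaf.stalk (f x)))
    (hsp : ∃ x' : X, x' ⤳ x ∧ f x' = genericPoint ↑Y) :
    ∃ U : X.Opens, x ∈ U ∧ Etale (U.ι ≫ f) := by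
  obtain ⟨x', hx', hx'η⟩ := hsp
  obtain ⟨_, ⟨V, hV, rfl⟩, hxV, -⟩ :=
    Y.isBasis_affineOpens.exists_subset_of_mem_open (Set.mem_univ (f x)) isOpen_univ
  obtain ⟨_, ⟨U, hU, rfl⟩, hxU, hUV⟩ :=
    X.isBasis_affineOpens.exists_subset_of_mem_open (show x ∈ (f ⁻¹ᵁ V : Set X) from hxV)
      (f ⁻¹ᵁ V).isOpen
  replace hV : IsAffineOpen V := hV
  replace hU : IsAffineOpen U := hU
  have e : U ≤ f ⁻¹ᵁ V := hUV
  have hx'U : x' ∈ U := hx'.mem_open U.isOpen hxU
  have hηV : genericPoint Y ∈ V := hx'η ▸ e hx'U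
  have : Nonempty (Scheme.Opens.toScheme V) := ⟨⟨_, hηV⟩⟩
  let _ := (f.appLE V U e).hom.toAlgebra
  have : Algebra.FiniteType Γ(Y, V) Γ(X, U) := LocallyOfFiniteType.finiteType_appLE f hV hU e
  have : Algebra.FormallyUnramified Γ(Y, V) Γ(X, U) := f.formallyUnramified_appLE hV hU e
  let Q := (hU.primeIdealOf ⟨x, hxU⟩).asIdeal
  let q := (hU.primeIdealOf ⟨x', hx'U⟩).asIdeal
  have hcomp : ∀ (z : X) (hz : z ∈ U), (hU.primeIdealOf ⟨z, hz⟩).asIdeal.under Γ(Y, V) =
      (hV.primeIdealOf ⟨f z, e hz⟩).asIdeal := fun z hz =>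
    congrArg PrimeSpectrum.asIdeal (IsAffineOpen.comap_primeIdealOf_appLE V hV U hU e hz)
  have hq0 : q.under Γ(Y, V) = ⊥ := by
    rw [hcomp x' hx'U]
    have h := hV.primeIdealOf_genericPoint
    rw [show (⟨f x', e hx'U⟩ : V) = ⟨genericPoint Y, hηV⟩ from Subtype.ext hx'η]
    rw [h, genericPoint_eq_bot_of_affine]
    rfl
  have hqQ : q ≤ Q := by
    refine (PrimeSpectrum.le_iff_specializes _ _).mpr (hU.fromSpec.isEmbedding.isInducing.specializes_iff.mp ?_)
    rw [hU.fromSpec_primeIdealOf, hU.fromSpec_primeIdealOf]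
    exact hx'
  let _ := Y.presheaf.algebra_section_stalk (⟨f x, e hxU⟩ : V)
  have : IsLocalization.AtPrime (Y.presheaf.stalk (f x)) (Q.under Γ(Y, V)) := by
    show IsLocalization (Q.under Γ(Y, V)).primeCompl _
    simp only [Q, hcomp x hxU]
    exact hV.isLocalization_stalk ⟨f x, e hxU⟩
  obtain ⟨h, hhQ, het⟩ := exists_etale_away Γ(Y, V) Γ(X, U) Q (Y.presheaf.stalk (f x)) hY q hqQ hq0
  let W : X.Opens := X.basicOpen h
  have hW : IsAffineOpen W := hU.basicOpen h
  have hxW : x ∈ W := by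
    have h' : hU.primeIdealOf ⟨x, hxU⟩ ∈ PrimeSpectrum.basicOpen h := hhQ
    rw [← hU.fromSpec_preimage_basicOpen] at h'
    have h'' : hU.fromSpec (hU.primeIdealOf ⟨x, hxU⟩) ∈ X.basicOpen h := h'
    rwa [hU.fromSpec_primeIdealOf] at h''
  have hWV : W ≤ f ⁻¹ᵁ V := (X.basicOpen_le h).trans e
  have hetW : (f.appLE V W hWV).hom.Etale := by
    let _ := (f.appLE V W hWV).hom.toAlgebra
    let _ : Algebra Γ(X, U) Γ(X, W) := (X.presheaf.map (homOfLE (X.basicOpen_le h)).op).hom.toAlgebra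
    have : IsLocalization.Away h Γ(X, W) := hU.isLocalization_basicOpen h
    have : IsScalarTower Γ(Y, V) Γ(X, U) Γ(X, W) := .of_algebraMap_eq' (by
      show (f.appLE V W hWV).hom = (f.appLE V U e ≫ X.presheaf.map (homOfLE (X.basicOpen_le h)).op).hom
      rw [Scheme.Hom.appLE_map])
    exact Algebra.Etale.of_equiv ((IsLocalization.algEquiv (Submonoid.powers h)
      (Localization.Away h) Γ(X, W)).restrictScalars Γ(Y, V))
  have : Etale (Spec.map (f.appLE V W hWV)) := (HasRingHomProperty.Spec_iff (P := @Etale)).mpr hetW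
  refine ⟨W, hxW, ?_⟩
  have heq : W.ι ≫ f = hW.isoSpec.hom ≫ Spec.map (f.appLE V W hWV) ≫ hV.fromSpec := by
    rw [IsAffineOpen.SpecMap_appLE_fromSpec f hV hW hWV, IsAffineOpen.isoSpec_hom_fromSpec_assoc]
  rw [heq]
  infer_instance

theorem etale_image_of_etale (f : X ⟶ Y) (U₀ : X.Opens) (W : U₀.toScheme.Opens) [Etale (W.ι ≫ U₀.ι ≫ f)] :
    Etale ((U₀.ι ''ᵁ W).ι ≫ f) := by
  have h : (U₀.ι ''ᵁ W).ι ≫ f = (U₀.ι.isoImage W).inv ≫ W.ι ≫ U₀.ι ≫ f := by
    rw [Scheme.Hom.isoImage_inv_ι_assoc]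
  rw [h]
  infer_instance

theorem etaleAt_of_unramifiedAt (f : X ⟶ Y) [IsIntegral Y] [LocallyOfFiniteType f] (x : X)
    (hY : CAlg2.IsGeomUnibranch (Y.presheaf.stalk (f x)))
    (hsp : ∃ x' : X, x' ⤳ x ∧ f x' = genericPoint ↑Y)
    (hunr : ∃ U : X.Opens, x ∈ U ∧ FormallyUnramified (U.ι ≫ f)) :
    ∃ U : X.Opens, x ∈ U ∧ Etale (U.ι ≫ f) := by
  obtain ⟨U₀, hxU, _⟩ := hunr
  obtain ⟨x', hx', hx'η⟩ := hsp
  have hx'U : x' ∈ U₀ := hx'.mem_open U₀.isOpen hxU
  obtain ⟨W, hxW, _⟩ := exists_etale_nhd_of_formallyUnramified (U₀.ι ≫ f) ⟨x, hxU⟩ hY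
    ⟨⟨x', hx'U⟩, Topology.IsInducing.subtypeVal.specializes_iff.mp hx', hx'η⟩
  exact ⟨U₀.ι ''ᵁ W, ⟨⟨x, hxU⟩, hxW, rfl⟩, etale_image_of_etale f U₀ W⟩

theorem etaleAt_of_comp_etaleAt {Z : Scheme.{u}} (f : X ⟶ Y) (g : Y ⟶ Z) [IsIntegral Y] (x : X)
    (hY : CAlg2.IsGeomUnibranch (Y.presheaf.stalk (f x))) (het : ∃ U : X.Opens, x ∈ U ∧ Etale (U.ι ≫ f ≫ g))
    (hsp : ∃ x' : X, x' ⤳ x ∧ f x' = genericPoint ↑Y) :
    (∃ U : X.Opens, x ∈ U ∧ Etale (U.ι ≫ f)) ∧ ∃ V : Y.Opens, f x ∈ V ∧ Etale (V.ι ≫ g) := by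
  obtain ⟨U, hxU, _⟩ := het
  have : Etale ((U.ι ≫ f) ≫ g) := by rwa [Category.assoc]
  have : LocallyOfFiniteType (U.ι ≫ f) := locallyOfFiniteType_of_comp _ g
  have : FormallyUnramified (U.ι ≫ f) := FormallyUnramified.of_comp _ g
  obtain ⟨x', hx', hx'η⟩ := hsp
  have hx'U : x' ∈ U := hx'.mem_open U.isOpen hxU
  obtain ⟨W, hxW, hW⟩ := exists_etale_nhd_of_formallyUnramified (U.ι ≫ f) ⟨x, hxU⟩ hY
    ⟨⟨x', hx'U⟩, Topology.IsInducing.subtypeVal.specializes_iff.mp hx', hx'η⟩
  refine ⟨⟨U.ι ''ᵁ W, ⟨⟨x, hxU⟩, hxW, rfl⟩, etale_image_of_etale f U W⟩, ?_⟩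
  let a := W.ι ≫ U.ι ≫ f
  have : Etale a := hW
  let V : Y.Opens := ⟨Set.range a, a.isOpenMap.isOpen_range⟩
  have hV : Set.range a ⊆ Set.range V.ι := by rw [Scheme.Opens.range_ι]; exact subset_rfl
  let b := IsOpenImmersion.lift V.ι a hV
  have hb : b ≫ V.ι = a := IsOpenImmersion.lift_fac _ _ _
  have : Etale (b ≫ V.ι) := hb.symm ▸ inferInstance
  have : Etale b := Etale.of_comp b V.ι
  have : Surjective b := ⟨fun v => by
    obtain ⟨w, hw⟩ : v.1 ∈ Set.range a := v.2
    refine ⟨w, Subtype.ext ?_⟩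
    show (b ≫ V.ι) w = v.1
    rw [hb]; exact hw⟩
  have : Etale (b ≫ V.ι ≫ g) := by
    rw [← Category.assoc, hb]
    show Etale ((W.ι ≫ U.ι ≫ f) ≫ g)
    rw [Category.assoc, Category.assoc]
    infer_instance
  refine ⟨V, ⟨⟨⟨x, hxU⟩, hxW⟩, rfl⟩, ?_⟩
  have := Groth.DescentBase.locallyOfFinitePresentation_of_smooth b (V.ι ≫ g)
  have := Groth.DescentBase.formallyUnramified_of_etale b (V.ι ≫ g)
  have := Groth.DescentBase.flat_of_flat_surjective b (V.ι ≫ g)
  exact Etale.of_formallyUnramified_of_flat (V.ι ≫ g)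

theorem etale_and_irreducible_of_dominant (f : X ⟶ Y) [IsIntegral Y]
    (hY : ∀ y : Y, CAlg2.IsGeomUnibranch (Y.presheaf.stalk y))
    [ConnectedSpace ↑X] [FormallyUnramified f] [LocallyOfFiniteType f]
    (hdom : genericPoint ↑Y ∈ Set.range ⇑f) : Etale f ∧ IrreducibleSpace ↑X := by
  let E : Set X := {x | ∃ x' : X, x' ⤳ x ∧ f x' = genericPoint ↑Y}
  have hopen : IsOpen E := isOpen_iff_forall_mem_open.mpr fun x hx => by
    obtain ⟨U, hxU, _⟩ := exists_etale_nhd_of_formallyUnramified f x (hY _) hx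
    refine ⟨U, fun z hz => ?_, U.isOpen, hxU⟩
    obtain ⟨z', hz', hz'η⟩ := Flat.generalizingMap (U.ι ≫ f)
      (genericPoint_specializes ((U.ι ≫ f) ⟨z, hz⟩))
    exact ⟨z'.1, Topology.IsInducing.subtypeVal.specializes_iff.mpr hz', hz'η⟩
  have hclosed : IsClosed E := by
    refine isClosed_of_closure_subset fun w hw => ?_
    obtain ⟨_, ⟨V, hV, rfl⟩, hwV, -⟩ :=
      Y.isBasis_affineOpens.exists_subset_of_mem_open (Set.mem_univ (f w)) isOpen_univ
    obtain ⟨_, ⟨U, hU, rfl⟩, hwU, hUV⟩ :=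
      X.isBasis_affineOpens.exists_subset_of_mem_open (show w ∈ (f ⁻¹ᵁ V : Set X) from hwV)
        (f ⁻¹ᵁ V).isOpen
    replace hV : IsAffineOpen V := hV
    replace hU : IsAffineOpen U := hU
    have : IsAffine (Scheme.Opens.toScheme V) := hV
    have : IsAffine (Scheme.Opens.toScheme U) := hU
    let g : Scheme.Opens.toScheme U ⟶ Scheme.Opens.toScheme V := f.resLE V U hUV
    have : FormallyUnramified g := by
      have : FormallyUnramified (g ≫ Scheme.Opens.ι V) := by
        rw [Scheme.Hom.resLE_comp_ι]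
        exact MorphismProperty.comp_mem (W := @FormallyUnramified) _ _ inferInstance ‹FormallyUnramified f›
      exact FormallyUnramified.of_comp g (Scheme.Opens.ι V)
    have : LocallyOfFiniteType g := inferInstance
    let F : Set X := {z | z ∈ U ∧ f z = genericPoint Y}
    have hfin : F.Finite := by
      by_cases hη : genericPoint Y ∈ V
      · refine ((g.finite_preimage_singleton ⟨genericPoint Y, hη⟩).image (Scheme.Opens.ι U)).subset ?_
        rintro z ⟨hzU, hz⟩
        refine ⟨⟨z, hzU⟩, Subtype.ext ?_, rfl⟩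
        rw [show (g ⟨z, hzU⟩).1 = (g ≫ Scheme.Opens.ι V) ⟨z, hzU⟩ from rfl, Scheme.Hom.resLE_comp_ι]
        exact hz
      · refine Set.finite_empty.subset ?_
        rintro z ⟨hzU, hz⟩
        exact hη (hz ▸ hUV hzU)
    have hsub : E ∩ (U : Set X) ⊆ ⋃ z ∈ F, closure {z} := by
      rintro z ⟨⟨z', hz', hz'η⟩, hzU⟩
      exact Set.mem_iUnion₂.mpr ⟨z', ⟨hz'.mem_open U.isOpen hzU, hz'η⟩, hz'.mem_closure⟩
    have hcl : IsClosed (⋃ z ∈ F, closure {z}) := hfin.isClosed_biUnion fun _ _ => isClosed_closure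
    have hw' : w ∈ closure (E ∩ (U : Set X)) := by
      rw [mem_closure_iff] at hw ⊢
      intro o ho hwo
      obtain ⟨z, ⟨hzo, hzU⟩, hzE⟩ := hw (o ∩ U) (ho.inter U.isOpen) ⟨hwo, hwU⟩
      exact ⟨z, hzo, hzE, hzU⟩
    obtain ⟨z, hz, hzw⟩ := Set.mem_iUnion₂.mp (closure_minimal hsub hcl hw')
    exact ⟨z, specializes_iff_mem_closure.mpr hzw, hz.2⟩
  obtain ⟨x₀, hx₀⟩ := hdom
  have huniv : E = Set.univ := (IsClopen.eq_univ ⟨hclosed, hopen⟩ ⟨x₀, x₀, specializes_refl _, hx₀⟩)
  have het : Etale f := by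
    choose W hxW hW using fun x : X => exists_etale_nhd_of_formallyUnramified f x (hY _) (huniv.ge (Set.mem_univ x))
    refine (IsZariskiLocalAtSource.iff_of_openCover (P := @Etale)
      (X.openCoverOfIsOpenCover W (TopologicalSpace.IsOpenCover.mk (eq_top_iff.mpr fun x _ =>
        Opens.mem_iSup.mpr ⟨x, hxW x⟩)))).mpr fun x => hW x
  refine ⟨het, ?_⟩
  have := het
  obtain ⟨huniq, hcomp⟩ := components_of_etale_over_geomUnibranch f hY
  obtain ⟨Z, hZ, -⟩ := (huniq x₀).exists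
  have hZclosed := isClosed_of_mem_irreducibleComponents Z hZ
  have hZu : Z = Set.univ := IsClopen.eq_univ ⟨hZclosed, (hcomp Z hZ).1⟩ hZ.1.nonempty
  have : PreirreducibleSpace X := ⟨hZu ▸ hZ.1.isPreirreducible⟩
  exact ⟨⟨x₀⟩⟩

end Groth.EtaleBaseTwo
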